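import Mathlib
import Cfsg.Agent.KB.LB
import Cfsg.Agent.KB.Grid

/-!
# Brauer's bound for defect groups with a central cyclic subgroup of index at most `16`
-/

set_option autoImplicit false
set_option linter.unusedSectionVars false
set_option linter.style.haveILetI false

namespace Cfsg.Agent.KB

open MonoidAlgebra Cfsg.Agent.Blk Cfsg.Agent.Blk.Mod Cfsg.Agent.Blk.PD Cfsg.Agent.Ch Cfsg.Agent.GT
  Cfsg.Agent.Blk.Tm Cfsg.Agent.Blk.Ab Cfsg.Agent.GT.CopAct Cfsg.Agent.GT.PG Subgroup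

universe u

variable {G : Type u} [Group G] [Fintype G] {p : ℕ} [hp : Fact p.Prime] {M : Ideal AlgInt}
  [M.IsMaximal] {B : Set (IrrCharacter G)} {P : Subgroup G} {e : (Res M)[G]} {v w : P}

theorem exists_two_gen {Q : Type*} [Group Q] [Finite Q] {u : Q} [(zpowers u).Normal]
    (h : (zpowers u).index ∣ p) : ∃ y, zpowers u ⊔ zpowers y = ⊤ := by
  haveI : IsCyclic (Q ⧸ zpowers u) := isCyclic_of_card_dvd_prime (p := p) h
  obtain ⟨y, hy⟩ := IsCyclic.exists_generator (α := Q ⧸ zpowers u)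
  obtain ⟨y, rfl⟩ := QuotientGroup.mk'_surjective _ y
  refine ⟨y, ?_⟩
  have h1 := comap_map_eq (QuotientGroup.mk' (zpowers u)) (zpowers y)
  rw [MonoidHom.map_zpowers, (eq_top_iff' _).2 hy, comap_top, QuotientGroup.ker_mk', sup_comm] at h1
  exact h1.symm

namespace QD

variable {b : Set (IrrCharacter ℭ[zpowers (v : G)])} {K : Type*} [Group K] [Fintype K]
  {φ : ℭ[zpowers (v : G)] →* K} {Q : Subgroup K} {g : (Res M)[K]}
  (h : QD p B P (zpowers (v : G)) e b φ Q g) (hc : P ≤ ℭ[zpowers (v : G)])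
include h

theorem ker_pi' : (h.pi hc).ker = zpowers v := (h.ker_pi hc).trans (zpowers_subgroupOf v)

include hc in
theorem card_eq_index : Nat.card Q = (zpowers v).index := by
  rw [← h.ker_pi' hc, index_ker, MonoidHom.range_eq_top.2 (h.pi_surj hc), card_top]

theorem lift' {τ : MulAut Q} (hτ : τ ∈ iq Q g) :
    ∃ σ ∈ iq P e, σ v = v ∧ ∀ x, τ (h.pi hc x) = h.pi hc (σ x) :=
  (h.lift hc hτ).imp fun _ h1 => ⟨h1.1, h1.2.1 v (mem_zpowers _), h1.2.2⟩

include hc in
theorem comm_iff : (∀ x y : Q, x * y = y * x) ↔ ∀ x y : P, x * y * x⁻¹ * y⁻¹ ∈ zpowers v := by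
  refine ⟨fun h1 x y => ?_, fun h1 => h.comm_of hc (by rwa [zpowers_subgroupOf])⟩
  rw [← h.ker_pi' hc, MonoidHom.mem_ker, map_mul, map_mul, map_mul, h1 (h.pi hc x)]
  simp

end QD

namespace MP

theorem exists_qd (h : MP p M B P e) (hv : v ∈ center P) :
    ∃ (b : Set (IrrCharacter ℭ[zpowers (v : G)])) (K : Type u) (_ : Group K) (_ : Fintype K)
      (φ : ℭ[zpowers (v : G)] →* K) (Q : Subgroup K) (g : (Res M)[K]),
      QD p B P (zpowers (v : G)) e b φ Q g ∧ blockDefect p b = blockDefect p B := by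
  obtain ⟨b, K, _, _, φ, Q, g, hq⟩ := exists_qd_central h.hM h.hB h.max (zpowers_le.2 v.2)
    (le_cen_of_mem_center hv)
  exact ⟨b, K, _, ‹_›, φ, Q, g, hq, hq.blockDefect_eq h.hB h.max (le_cen_of_mem_center hv)⟩

theorem card_le_of_lv_le_two (h : MP p M B P e) (hv : v ∈ center P) (hl : lv p B e v ≤ 2) :
    Nat.card B ≤ Nat.card P := by
  classical
  obtain ⟨b, K, _, _, φ, Q, g, hq, hd⟩ := h.exists_qd hv
  exact h.card_eq ▸ hq.card_le_of_rank_le_two hd (hq.lv_eq h ▸ hl)

theorem card_le_of_two_gen (h : MP p M B P e) {x y : P} (hxy : x * y = y * x)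
    (hgen : zpowers x ⊔ zpowers y = ⊤) : Nat.card B ≤ Nat.card P := by
  refine h.card_eq ▸ Blk.card_le_of_two_gen h.hM h.hB h.isDefectGroup (x := x) (y := y)
    (congrArg Subtype.val hxy) ?_
  have h1 := congrArg (Subgroup.map P.subtype) hgen
  rw [Subgroup.map_sup, MonoidHom.map_zpowers, MonoidHom.map_zpowers, ← MonoidHom.range_eq_map,
    range_subtype] at h1
  exact h1.symm

theorem card_le_of_not_seven (h : MP 2 M B P e) (hv : v ∈ center P) (h16 : (zpowers v).index ≤ 16)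
    (h7 : (∀ x y : P, x * y * x⁻¹ * y⁻¹ ∈ zpowers v) → ∀ σ ∈ iq P e, σ v = v → ¬ 7 ∣ orderOf σ) :
    Nat.card B ≤ Nat.card P := by
  classical
  obtain ⟨b, K, _, _, φ, Q, g, hq, hd⟩ := h.exists_qd hv
  have hc := le_cen_of_mem_center hv
  rw [← hq.card_eq_index hc] at h16
  by_cases hab : ∀ x y : Q, x * y = y * x
  · have hA := hq.abS hab
    rcases cases_sixteen hA.pgroup hab h16 hA.not_dvd_card_iq (fun τ hτ h1 => by
      obtain ⟨σ, h2, h3, h4⟩ := hq.lift' hc hτ
      exact h7 ((hq.comm_iff hc).1 hab) σ h2 h3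
        (h1.trans (orderOf_dvd_of_compat (hq.pi_surj hc) h4))) with h1 | h1 | ⟨A, A', h1⟩
    · exact (h.card_le_of_lv_le hv (by rwa [hq.lv_eq h, rank_eq_card_iq hA h1])).2
    · exact h.card_eq ▸ hq.card_le_of_free hd hab h1
    · exact h.card_eq ▸ hq.card_le_of_grid hd h1
  · exact (h.card_le_of_lv_le hv (hq.lv_eq h ▸ hq.mp.rank_le_of_nonab hab h16)).2

theorem card_le_of_central (h : MP p M B P e) (hv : v ∈ center P) (h16 : (zpowers v).index ≤ 16) :
    Nat.card B ≤ Nat.card P := by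
  classical
  haveI : (zpowers v).Normal := ⟨fun a ha g => by
    rwa [mem_center_iff.1 (zpowers_le.2 hv ha) g, mul_inv_cancel_right]⟩
  obtain ⟨k, hk⟩ := (h.pgroup.to_quotient (zpowers v)).exists_card_eq
  rw [← index_eq_card] at hk
  by_cases hgen : ∃ x y : P, x * y = y * x ∧ zpowers x ⊔ zpowers y = ⊤
  · obtain ⟨x, y, h1, h2⟩ := hgen
    exact h.card_le_of_two_gen h1 h2
  have hk2 : 2 ≤ k := by
    by_contra! h1
    obtain ⟨y, hy⟩ := exists_two_gen (p := p) (u := v) (by rw [hk]; interval_cases k <;> simp)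
    exact hgen ⟨v, y, (mem_center_iff.1 hv y).symm, hy⟩
  have hp4 : p ≤ 4 := by
    have := (Nat.pow_le_pow_right hp.out.pos hk2).trans (hk ▸ h16)
    nlinarith
  obtain rfl | rfl : p = 2 ∨ p = 3 := by
    have h1 := hp.out
    interval_cases p <;> first | omega | exact absurd h1 (by norm_num)
  · by_cases hab : ∀ x y : P, x * y = y * x
    · obtain ⟨w, h1, h2⟩ := exists_not_seven h.pgroup hab (h.abS hab).not_dvd_card_iq h16
      exact h.card_le_of_not_seven (mem_center_iff.2 fun g => hab g w) h1 fun _ => h2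
    · exact h.card_le_of_not_seven hv h16 fun h1 σ _ h2 =>
        not_seven_of_nonab h.pgroup hab hv h1 h16 h2
  · have h9 : (zpowers v).index = 3 ^ 2 := by
      have : k < 3 := (Nat.pow_lt_pow_iff_right (a := 3) (by norm_num)).1 (by omega)
      rw [hk, show k = 2 by omega]
    by_cases hab : ∀ x y : P, x * y = y * x
    · have hA := h.abS hab
      obtain ⟨w, h1⟩ := exists_stab_le_two h.pgroup hab hA.not_dvd_card_iq h9
        fun x y h1 => hgen ⟨x, y, hab x y, h1⟩
      exact h.card_le_of_lv_le_two (hA.mem_center w)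
        (by rwa [lv_eq_lk hA, lk_eq_card_stab hA w (by omega)])
    · obtain ⟨b, K, _, _, φ, Q, g, hq, hd⟩ := h.exists_qd hv
      have hc := le_cen_of_mem_center hv
      rw [← hq.card_eq_index hc] at h9
      have hQ : ∀ x y : Q, x * y = y * x :=
        (IsPGroup.commGroupOfCardEqPrimeSq (p := 3) h9).mul_comm
      refine h.card_eq ▸ hq.card_le_of_free hd hQ fun τ hτ x hx h1 => ?_
      obtain ⟨σ, -, h3, h4⟩ := hq.lift' hc hτ
      exact eq_one_of_nonab hab hv (hq.pi_surj hc) (hq.ker_pi' hc) h9 h3 h4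
        (fun h5 => (hq.abS hQ).not_dvd_card_iq (h5.trans (orderOf_dvd_natCard _ hτ))) hx h1

end MP

end Cfsg.Agent.KB
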