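import Mathlib
import Cfsg.Agent.KB.Defs2
import Cfsg.Agent.Fus.TransvApp
import Cfsg.Agent.Fus.EssSmall
import Cfsg.Agent.Fus.EssLocal
import Cfsg.Agent.GT.FourGroup
import Cfsg.Agent.GT.PGroupChain

/-! # Fusion systems on two-generator groups of order 32 with a four-group as commutator subgroup -/

set_option autoImplicit false
set_option linter.unusedSectionVars false

namespace Cfsg.Agent.KB

open Subgroup Cfsg.FusionSystem Cfsg.Agent.Fus
open scoped commutatorElement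

namespace FG

section Abstract
variable {Q : Type*} [Group Q] [Finite Q]

theorem not_central (h : FamG Q) : ¬ commutator Q ≤ center Q := fun hc => by
  obtain ⟨x, y, hxy⟩ := h.gen
  have h1 : ⁅x, y⁆ ∈ commutator Q := commutator_mem_commutator (mem_top x) (mem_top y)
  have hn : (zpowers ⁅x, y⁆).Normal := ⟨fun a ha g => by
    rw [mem_center_iff.1 (hc (zpowers_le.2 h1 ha)) g, mul_inv_cancel_right]; exact ha⟩
  have h2 : commutator Q ≤ zpowers ⁅x, y⁆ := by
    rw [← Normal.quotient_commutative_iff_commutator_le]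
    have h3 : Commute (x : Q ⧸ zpowers ⁅x, y⁆) y := commutatorElement_eq_one_iff_commute.1
      ((QuotientGroup.eq_one_iff ⁅x, y⁆).2 (mem_zpowers _))
    have h4 : ∀ {a : Q ⧸ zpowers ⁅x, y⁆}, Commute (x : Q ⧸ zpowers ⁅x, y⁆) a →
        Commute (y : Q ⧸ zpowers ⁅x, y⁆) a → ∀ g : Q, Commute (g : Q ⧸ zpowers ⁅x, y⁆) a := by
      intro a h1 h2 g
      have : (⊤ : Subgroup Q) ≤ (centralizer {a}).comap (QuotientGroup.mk' _) := by
        rw [← hxy]
        exact sup_le (zpowers_le.2 (mem_centralizer_singleton_iff.2 h1))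
          (zpowers_le.2 (mem_centralizer_singleton_iff.2 h2))
      exact mem_centralizer_singleton_iff.1 (this (mem_top g))
    refine ⟨⟨fun a b => ?_⟩⟩
    obtain ⟨a, rfl⟩ := QuotientGroup.mk_surjective a
    obtain ⟨b, rfl⟩ := QuotientGroup.mk_surjective b
    exact h4 (h4 (Commute.refl _) h3.symm b).symm (h4 h3 (Commute.refl _) b).symm a
  have h5 := card_le_of_le h2
  rw [h.card_comm, Nat.card_zpowers] at h5
  have := Nat.le_of_dvd two_pos (orderOf_dvd_of_pow_eq_one (h.sq _ h1))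
  omega

theorem exists_sq (h : FamG Q) : ∃ g : Q, g ^ 2 ∉ commutator Q := by
  by_contra! hs
  obtain ⟨x, y, hxy⟩ := h.gen
  have h1 := (commutator Q).card_mul_index
  rw [h.card, h.card_comm] at h1
  have h2 : ∀ g : Q, (g : Q ⧸ commutator Q) ^ 2 = 1 := fun g =>
    (QuotientGroup.eq_one_iff (g ^ 2)).2 (hs g)
  have h3 : Commute (x : Q ⧸ commutator Q) y := commutatorElement_eq_one_iff_commute.1
    ((QuotientGroup.eq_one_iff ⁅x, y⁆).2 (commutator_mem_commutator (mem_top x) (mem_top y)))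
  have h4 : (Set.univ : Set (Q ⧸ commutator Q)) ⊆ {1, (x : Q ⧸ commutator Q), (y : Q ⧸ commutator Q),
      (x : Q ⧸ commutator Q) * (y : Q ⧸ commutator Q)} := by
    intro a _
    obtain ⟨a, rfl⟩ := QuotientGroup.mk_surjective a
    refine GT.mem_four_group_cases (h2 x) (h2 y) h3 ?_
    have : a ∈ zpowers x ⊔ zpowers y := hxy ▸ mem_top a
    have := mem_map_of_mem (QuotientGroup.mk' (commutator Q)) this
    rwa [Subgroup.map_sup, MonoidHom.map_zpowers, MonoidHom.map_zpowers] at this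
  have h5 := (Set.ncard_le_ncard h4).trans (Set.ncard_insert_le _ _ |>.trans
    (Nat.add_le_add_right (Set.ncard_insert_le _ _ |>.trans
      (Nat.add_le_add_right (Set.ncard_insert_le _ _) 1)) 1))
  rw [Set.ncard_univ, Set.ncard_singleton] at h5
  change (commutator Q).index ≤ _ at h5
  omega

theorem card_centralizer (h : FamG Q) (x : Q) : 8 ≤ Nat.card (centralizer {x}) := by
  have h1 := (centralizer {x}).card_mul_index
  have h2 : (centralizer {x}).index ≤ 4 := by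
    rw [← h.card_comm]
    have h3 : commutatorSet Q ⊆ commutator Q := by
      rintro _ ⟨g, k, rfl⟩
      exact commutator_mem_commutator (mem_top _) (mem_top _)
    exact Nat.card_le_card_of_injective _ ((Set.inclusion_injective h3).comp
      (quotientCentralizerEmbedding x).injective)
  rw [h.card] at h1
  nlinarith

end Abstract

variable {Ω : Type*} [Group Ω] {S : Subgroup Ω} [Finite S]

theorem mul_mem_of_dvd_two {X Y : Subgroup Ω} (hi : Y.relIndex X ∣ 2) {x y : Ω} (hx : x ∈ X)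
    (hy : y ∈ X) (h : x ∈ Y ↔ y ∈ Y) : x * y ∈ Y := by
  rcases (Nat.dvd_prime Nat.prime_two).1 hi with e | e
  · exact relIndex_eq_one.1 e (X.mul_mem hx hy)
  · exact (mul_mem_iff_of_index_two (H := Y.subgroupOf X) e (a := ⟨x, hx⟩) (b := ⟨y, hy⟩)).2 h

theorem comm_of_dvd_two {X A : Subgroup Ω} (hi : A.relIndex X ∣ 2)
    (hc : ∀ a ∈ A, ∀ x ∈ X, a * x = x * a) {x y : Ω} (hx : x ∈ X) (hy : y ∈ X) :
    x * y = y * x := by
  by_cases h1 : x ∈ A
  · exact hc x h1 y hy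
  by_cases h2 : y ∈ A
  · exact (hc y h2 x hx).symm
  have h3 := hc _ (mul_mem_of_dvd_two hi (X.inv_mem hx) hy
    (by rw [inv_mem_iff]; tauto)) x hx
  rw [mul_inv_cancel_left, mul_assoc, inv_mul_eq_iff_eq_mul] at h3
  exact h3.symm

theorem card_mul_relIndex {X Y : Subgroup Ω} (h : Y ≤ X) :
    Nat.card Y * Y.relIndex X = Nat.card X := by
  rw [← (Y.subgroupOf X).card_mul_index, Nat.card_congr (subgroupOfEquivOfLe h).toEquiv]
  rfl

/-- If `|X| = 2 n` and `Y ≤ X` is larger than a subgroup of order `n / 2`. -/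
theorem relIndex_dvd_two {X Y Z : Subgroup Ω} [Finite X] (hZY : Z < Y) (h : Y ≤ X)
    (hi : Nat.card X = 4 * Nat.card Z) : Y.relIndex X ∣ 2 := by
  have := finite_of_le (hZY.le.trans h)
  have h1 := relIndex_mul_relIndex Z Y X hZY.le h
  have h2 := card_mul_relIndex (hZY.le.trans h)
  rw [hi, mul_comm 4] at h2
  rw [Nat.eq_of_mul_eq_mul_left Nat.card_pos h2] at h1
  have h3 : Z.relIndex Y ≠ 1 := fun e => hZY.not_ge (relIndex_eq_one.1 e)
  have h4 : Y.relIndex X ∣ 2 ^ 2 := Dvd.intro_left _ h1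
  obtain ⟨i, hi, e⟩ := (Nat.dvd_prime_pow Nat.prime_two).1 h4
  rw [e] at h1 ⊢
  interval_cases i
  · simp
  · simp
  · omega

/-- The basic data. -/
structure Dat (S : Subgroup Ω) (w : Ω) : Prop where
  card : Nat.card S = 32
  cardV : Nat.card (⁅S, S⁆ : Subgroup Ω) = 4
  sqV : ∀ v ∈ ⁅S, S⁆, v ^ 2 = 1
  wV : w ∈ ⁅S, S⁆
  w1 : w ≠ 1
  wc : ∀ x ∈ S, x * w = w * x
  nc : ∃ g ∈ S, g ∉ centralizer (⁅S, S⁆ : Subgroup Ω)
  nsq : ∃ g ∈ S, g ^ 2 ∉ ⁅S, S⁆
  cent : ∀ x ∈ S, 8 ≤ Nat.card (S ⊓ centralizer {x} : Subgroup Ω)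

theorem exists_dat (h : FamG S) : ∃ w, Dat S w := by
  have hS : IsPGroup 2 S := IsPGroup.of_card (n := 5) h.card
  have hV : ∀ x : S, x ∈ commutator S ↔ (x : Ω) ∈ ⁅S, S⁆ := fun x => by
    rw [← map_subtype_commutator]
    exact (mem_map_iff_mem (subtype_injective S)).symm
  obtain ⟨w, hw, wc, w1, -⟩ := GT.PG.exists_mem_center_of_normal hS (commutator S) fun e => by
    have := h.card_comm
    rw [e, card_bot] at this
    omega
  refine ⟨w, h.card, ?_, fun v hv => ?_, (hV w).1 hw, fun e => w1 (Subtype.ext e),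
    fun x hx => congrArg Subtype.val (mem_center_iff.1 wc ⟨x, hx⟩), ?_, ?_, fun x hx => ?_⟩
  · rw [← map_subtype_commutator, card_map_of_injective (subtype_injective S), h.card_comm]
  · exact congrArg Subtype.val (h.sq ⟨v, commutator_le_self S hv⟩ ((hV _).2 hv))
  · by_contra! hc
    exact not_central h fun v hv => mem_center_iff.2 fun g =>
      Subtype.ext (hc g g.2 v ((hV v).1 hv)).symm
  · obtain ⟨g, hg⟩ := exists_sq h
    exact ⟨g, g.2, fun e => hg ((hV _).2 e)⟩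
  · refine (card_centralizer h ⟨x, hx⟩).trans ?_
    rw [← card_map_of_injective (subtype_injective S)]
    have := finite_of_le (inf_le_left : S ⊓ centralizer {x} ≤ S)
    refine card_le_of_le ?_
    rintro _ ⟨y, hy, rfl⟩
    exact ⟨y.2, mem_centralizer_singleton_iff.2
      (congrArg Subtype.val (mem_centralizer_singleton_iff.1 hy))⟩

/-- The centralizer of the commutator subgroup. -/
abbrev MM (S : Subgroup Ω) : Subgroup Ω := S ⊓ centralizer (⁅S, S⁆ : Subgroup Ω)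

theorem VS : ⁅S, S⁆ ≤ S := commutator_le_self S

theorem cm {x y : Ω} (hx : x ∈ S) (hy : y ∈ S) : ⁅x, y⁆ ∈ ⁅S, S⁆ := commutator_mem_commutator hx hy

theorem conjV {g v : Ω} (hg : g ∈ S) (hv : v ∈ ⁅S, S⁆) : g * v * g⁻¹ ∈ ⁅S, S⁆ := by
  have := (⁅S, S⁆ : Subgroup Ω).mul_mem (cm hg (VS hv)) hv
  rwa [commutatorElement_def, inv_mul_cancel_right] at this

namespace Dat

variable {w : Ω} (d : Dat S w)
include d

theorem pg : IsPGroup 2 S := IsPGroup.of_card (n := 5) d.card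

theorem invV {v : Ω} (hv : v ∈ ⁅S, S⁆) : v⁻¹ = v :=
  inv_eq_of_mul_eq_one_right (by rw [← pow_two, d.sqV v hv])

theorem VM : ⁅S, S⁆ ≤ MM S := fun v hv => ⟨VS hv, fun u hu => by
  rw [← d.invV (Subgroup.mul_mem _ hu hv), mul_inv_rev, d.invV hu, d.invV hv]⟩

theorem memW {x : Ω} : x ∈ zpowers w ↔ x = 1 ∨ x = w :=
  ⟨GT.eq_one_or_eq_of_mem_zpowers_of_sq (d.sqV w d.wV), by
    rintro (rfl | rfl)
    · exact one_mem _
    · exact mem_zpowers _⟩

theorem cardW : Nat.card (zpowers w) = 2 := by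
  rw [Nat.card_zpowers]
  exact orderOf_eq_prime (d.sqV w d.wV) d.w1

theorem WV : zpowers w ≤ ⁅S, S⁆ := zpowers_le.2 d.wV

theorem Wc {x y : Ω} (hx : x ∈ S) (hy : y ∈ zpowers w) : x * y = y * x := by
  rcases d.memW.1 hy with rfl | rfl
  · rw [mul_one, one_mul]
  · exact d.wc x hx

theorem relW : (zpowers w).relIndex ⁅S, S⁆ ∣ 2 := by
  have := card_mul_relIndex d.WV
  rw [d.cardW, d.cardV] at this
  exact (show _ = 2 by omega).dvd

theorem conjW {g y : Ω} (hg : g ∈ S) : g * y * g⁻¹ ∈ zpowers w ↔ y ∈ zpowers w := by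
  refine ⟨fun h => ?_, fun h => by rwa [d.Wc hg h, mul_inv_cancel_right]⟩
  have := d.Wc (S.inv_mem hg) h
  rwa [show y = g⁻¹ * (g * y * g⁻¹) * g by group, this, inv_mul_cancel_right]

theorem commV {g v : Ω} (hg : g ∈ S) (hv : v ∈ ⁅S, S⁆) : ⁅g, v⁆ ∈ zpowers w :=
  mul_mem_of_dvd_two d.relW (conjV hg hv) (inv_mem hv) (by rw [inv_mem_iff, d.conjW hg])

/-- An element of `V` commuting with an element outside `M` lies in `⟨w⟩`. -/
theorem memW_of {g y : Ω} (hg : g ∈ S) (hM : g ∉ MM S) (hy : y ∈ ⁅S, S⁆) (h : g * y = y * g) :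
    y ∈ zpowers w := by
  by_contra hn
  refine hM ⟨hg, fun v hv => ?_⟩
  by_cases h1 : v ∈ zpowers w
  · exact (d.Wc hg h1).symm
  · have h2 := d.Wc hg (mul_mem_of_dvd_two d.relW hv hy (by tauto))
    rw [mul_assoc v, ← h, ← mul_assoc, ← mul_assoc] at h2
    exact (mul_right_cancel h2).symm

theorem exists_v {g : Ω} (hg : g ∈ S) (hM : g ∉ MM S) : ∃ v ∈ ⁅S, S⁆, ⁅g, v⁆ = w := by
  by_contra! h
  exact hM ⟨hg, fun v hv => (commutatorElement_eq_one_iff_mul_comm.1
    ((d.memW.1 (d.commV hg hv)).resolve_right (h v hv))).symm⟩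

theorem mul_memM {g k : Ω} (hg : g ∈ S) (hk : k ∈ S) (h1 : g ∉ MM S) (h2 : k ∉ MM S) :
    g * k ∈ MM S := by
  by_contra h3
  obtain ⟨v, hv, e⟩ := d.exists_v (S.mul_mem hg hk) h3
  have h4 : v ∉ zpowers w := fun h =>
    d.w1 (e.symm.trans (commutatorElement_eq_one_iff_mul_comm.2 (d.Wc (S.mul_mem hg hk) h)))
  have h5 : ∀ x ∈ S, x ∉ MM S → x * v * x⁻¹ = w * v := fun x hx hM => by
    rw [← (d.memW.1 (d.commV hx hv)).resolve_left fun e =>
      h4 (d.memW_of hx hM hv (commutatorElement_eq_one_iff_mul_comm.1 e)), commutatorElement_def,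
      inv_mul_cancel_right]
  refine d.w1 (e.symm.trans ?_)
  rw [commutatorElement_def, show g * k * v * (g * k)⁻¹ = g * (k * v * k⁻¹) * g⁻¹ by group,
    h5 k hk h2, ← mul_assoc, d.wc g hg, mul_assoc w, mul_assoc w, h5 g hg h1, ← mul_assoc,
    ← pow_two, d.sqV w d.wV, one_mul, mul_inv_cancel]

theorem exists_t : ∃ t ∈ S, t ∉ MM S :=
  let ⟨t, ht, h⟩ := d.nc
  ⟨t, ht, fun e => h e.2⟩

theorem relM : (MM S).relIndex S = 2 := by
  obtain ⟨t, ht, h⟩ := d.exists_t
  refine index_eq_two_iff.2 ⟨⟨t, ht⟩, fun b => ?_⟩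
  by_cases hb : (b : Ω) ∈ MM S
  · exact Or.inr ⟨hb, fun e => h ((mul_mem_cancel_left hb).1 e)⟩
  · exact Or.inl ⟨d.mul_memM b.2 ht hb h, hb⟩

theorem cardM : Nat.card (MM S) = 16 := by
  have := card_mul_relIndex (inf_le_left : MM S ≤ S)
  rw [d.relM, d.card] at this
  exact Nat.eq_of_mul_eq_mul_right two_pos this

theorem nab : ¬ ∀ a ∈ MM S, ∀ b ∈ MM S, a * b = b * a := fun hc => by
  have key : ∀ g ∈ S, g ∉ MM S → ∀ m ∈ MM S, ⁅g, m⁆ ∈ zpowers w := fun g hg hM m hm => by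
    refine d.memW_of hg hM (cm hg hm.1) ?_
    have h1 := hc _ (d.mul_memM hg hg hM hM) m hm
    conv_rhs => rw [← d.invV (cm hg hm.1)]
    rw [commutatorElement_inv, commutatorElement_def, commutatorElement_def,
      show g * (g * m * g⁻¹ * m⁻¹) = g * g * m * g⁻¹ * m⁻¹ by group, h1]
    group
  have h1 : ⁅S, S⁆ ≤ zpowers w := by
    rw [commutator_le]
    intro g hg k hk
    by_cases h2 : g ∈ MM S <;> by_cases h3 : k ∈ MM S
    · rw [commutatorElement_eq_one_iff_mul_comm.2 (hc g h2 k h3)]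
      exact one_mem _
    · rw [← commutatorElement_inv]
      exact inv_mem (key k hk h3 g h2)
    · exact key g hg h2 k h3
    · have := (d.conjW hg).2 (key g hg h2 _ (d.mul_memM (S.inv_mem hg) hk
        (by rwa [inv_mem_iff]) h3))
      convert this using 1
      simp only [commutatorElement_def]
      group
  have := finite_of_le (d.WV.trans VS)
  have := card_le_of_le h1
  rw [d.cardV, d.cardW] at this
  omega

theorem memV_of {m : Ω} (hm : m ∈ MM S) (h : ∀ x ∈ MM S, x * m = m * x) : m ∈ ⁅S, S⁆ := by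
  by_contra hn
  have := finite_of_le (inf_le_left : MM S ≤ S)
  refine d.nab fun a ha b hb => comm_of_dvd_two (A := MM S ⊓ centralizer (MM S : Set Ω))
    (relIndex_dvd_two (Z := ⁅S, S⁆) (lt_of_le_of_ne
      (fun v hv => ⟨d.VM hv, fun x hx => (hx.2 v hv).symm⟩) fun e => hn (e ▸ ⟨hm, h⟩))
      inf_le_left (by rw [d.cardM, d.cardV])) (fun a ha x hx => (ha.2 x hx).symm) ha hb

theorem sqM {m : Ω} (hm : m ∈ MM S) : m ^ 2 ∈ zpowers w := by
  have key : ∀ x ∈ S, x * m ^ 2 = m ^ 2 * x := fun x hx => by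
    have h1 : Commute ⁅x, m⁆ m := hm.2 _ (cm hx hm.1)
    rw [← mul_inv_eq_iff_eq_mul, ← conj_pow, show x * m * x⁻¹ = ⁅x, m⁆ * m by
      rw [commutatorElement_def, inv_mul_cancel_right], h1.mul_pow, d.sqV _ (cm hx hm.1), one_mul]
  obtain ⟨t, ht, h⟩ := d.exists_t
  exact d.memW_of ht h (d.memV_of (pow_mem hm 2) fun x hx => key x hx.1) (key t ht)

theorem commM {a b : Ω} (ha : a ∈ MM S) (hb : b ∈ MM S) : ⁅a, b⁆ ∈ zpowers w := by
  rw [show ⁅a, b⁆ = (a * b) ^ 2 * (b⁻¹ * a⁻¹ * b) ^ 2 * b⁻¹ ^ 2 by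
    simp only [commutatorElement_def, pow_two]; group]
  exact mul_mem (mul_mem (d.sqM (mul_mem ha hb)) (d.sqM (mul_mem (mul_mem (inv_mem hb)
    (inv_mem ha)) hb))) (d.sqM (inv_mem hb))

theorem memM_of_sq {g : Ω} (hg : g ∈ S) (h : g ^ 2 ∈ ⁅S, S⁆) : g ∈ MM S := by
  by_contra hM
  obtain ⟨k, hk, hn⟩ := d.nsq
  refine hn ?_
  by_cases h1 : k ∈ MM S
  · exact d.WV (d.sqM h1)
  have h2 := d.mul_memM (S.inv_mem hg) hk (by rwa [inv_mem_iff]) h1
  rw [show k ^ 2 = g ^ 2 * ⁅g⁻¹, g⁻¹ * k⁆ * (g⁻¹ * k) ^ 2 by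
    simp only [commutatorElement_def, pow_two]; group]
  exact mul_mem (mul_mem h (cm (S.inv_mem hg) h2.1)) (d.WV (d.sqM h2))

theorem eight_le {R : Subgroup Ω} (hR : R ≤ S)
    (hc : ∀ s ∈ S, s ∈ centralizer (R : Set Ω) → s ∈ R) : 8 ≤ Nat.card R := by
  have := finite_of_le hR
  have hw : zpowers w ≤ R := zpowers_le.2 (hc w (VS d.wV) fun x hx => d.wc x (hR hx))
  have key : ∀ x ∈ S, R ≤ zpowers w ⊔ zpowers x → 8 ≤ Nat.card R := fun x hx h =>
    (d.cent x hx).trans (card_le_of_le fun s hs => hc s hs.1 fun y hy =>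
      (mem_centralizer_singleton_iff.1 ((sup_le (c := centralizer {s})
        (zpowers_le.2 (mem_centralizer_singleton_iff.2 (d.wc s hs.1).symm))
        (zpowers_le.2 (mem_centralizer_singleton_iff.2
          (mem_centralizer_singleton_iff.1 hs.2).symm))) (h hy))))
  by_cases h1 : R ≤ zpowers w
  · exact key 1 S.one_mem (h1.trans le_sup_left)
  obtain ⟨x, hx, hxw⟩ := SetLike.not_le_iff_exists.1 h1
  by_contra h2
  have h3 := card_mul_relIndex hw
  obtain ⟨k, hk⟩ := (d.pg.to_le hR).index ((zpowers w).subgroupOf R)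
  have h4 : (zpowers w).relIndex R ∣ 2 := by
    change (zpowers w).relIndex R = _ at hk
    rw [d.cardW, hk] at h3
    rw [hk]
    have : k < 2 := by
      by_contra h
      have := Nat.pow_le_pow_right two_pos (not_lt.1 h)
      omega
    interval_cases k <;> simp
  refine h2 (key x (hR hx) fun y hy => ?_)
  by_cases h5 : y ∈ zpowers w
  · exact mem_sup_left h5
  · rw [← inv_mul_cancel_right y x]
    exact mul_mem_sup (mul_mem_of_dvd_two h4 hy (inv_mem hx) (by rw [inv_mem_iff]; tauto))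
      (mem_zpowers x)

variable {F : FusionSystem S}

theorem aut_pg : IsPGroup 2 (F.autGroup S) := by
  have hM : InvA (F.autGroup S) (MM S) :=
    (invA_top _).inf_centralizer ((invA_top _).commutator (invA_top _))
  have hΦ : InvA (F.autGroup S) (⁅S, S⁆ ⊔ powerClosure 2 1 S) :=
    ((invA_top _).commutator (invA_top _)).sup ((invA_top _).powerClosure 2 1)
  have hle : ⁅S, S⁆ ⊔ powerClosure 2 1 S ≤ MM S := sup_le d.VM ((closure_le _).2 (by
    rintro _ ⟨x, hx, rfl⟩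
    exact sq_mem_of_index_two (H := (MM S).subgroupOf S) d.relM ⟨x, hx⟩))
  have := finite_of_le (inf_le_left : MM S ≤ S)
  have hi : (⁅S, S⁆ ⊔ powerClosure 2 1 S).relIndex (MM S) ∣ 2 := by
    obtain ⟨g, hg, h⟩ := d.nsq
    exact relIndex_dvd_two (Z := ⁅S, S⁆) (lt_of_le_of_ne le_sup_left fun e =>
      h (e ▸ mem_sup_right (subset_closure ⟨g, hg, rfl⟩))) hle (by rw [d.cardM, d.cardV])
  refine (isPGroup_chainStab (C := fun i => if i = 0 then S else if i = 1 then MM S else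
    ⁅S, S⁆ ⊔ powerClosure 2 1 S) (n := 2) d.pg rfl le_rfl).to_le fun α hα =>
      mem_chainStab_of le_rfl (fun i hj => ?_) fun i hj x hx => ?_
  · interval_cases i
    · exact inf_le_left
    · exact hle
  · interval_cases i
    · exact mul_mem_of_dvd_two d.relM.dvd (S.inv_mem hx) (totA_mem α hx)
        (by rw [inv_mem_iff, hM.mem_iff hα hx])
    · exact mul_mem_of_dvd_two hi (inv_mem hx) (hM.mem hα hx)
        (by rw [inv_mem_iff, hΦ.mem_iff hα hx.1])

omit d in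
theorem le_norm {R : Subgroup Ω} (hR : R ≤ S) (hV : ⁅S, S⁆ ≤ R) {s : Ω} (hs : s ∈ S) :
    s ∈ normalizerIn S R :=
  ⟨hs, le_normalizer_iff_commutator_le_right.2 ((commutator_mono le_rfl hR).trans hV) hs⟩

omit d in
theorem conj_comm (x s : Ω) : x⁻¹ * (s * x * s⁻¹) = ⁅x⁻¹, s⁆ := comm_mem_iff_conj

theorem not_eight {R : Subgroup Ω} (hF : F.IsSaturated 2) (hR : F.IsEssential 2 R)
    (h8 : Nat.card R = 8) : False := by
  have hRS := hR.le
  have := finite_of_le hRS
  rcases (hR.noChain hF d.pg).of_card_cube h8 with ⟨hc, h2⟩ | h | ⟨-, ⟨e⟩⟩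
  · have hRM : R ≤ MM S := fun x hx => d.memM_of_sq (hRS hx) (by
      rw [show x ^ 2 = 1 from congrArg Subtype.val (h2 ⟨x, hx⟩)]; exact one_mem _)
    have hV : ⁅S, S⁆ ≤ R := fun v hv =>
      hR.isCentric.mem (VS hv) fun x hx => ((hRM hx).2 v hv).symm
    obtain ⟨m, hm, hmR⟩ := SetLike.exists_of_lt (lt_of_le_of_ne hRM fun e => by
      have := d.cardM
      rw [← e, h8] at this
      omega)
    obtain ⟨X, Y, c, ht⟩ := hR.exists_transv hF d.pg (invA_bot _) (by
      rw [commutator_le]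
      exact fun x hx y hy => commutatorElement_eq_one_iff_mul_comm.2
        (congrArg Subtype.val (hc.is_comm.comm (⟨x, hx⟩ : R) ⟨y, hy⟩))) bot_le
      (le_norm hRS hV hm.1) hmR (hV d.wV) (d.sqV w d.wV) fun x hx => by
        rw [conj_comm]
        exact mem_sup_right (d.commM (inv_mem (hRM hx)) hm)
    obtain ⟨t, h1, h3⟩ := d.exists_t
    exact h3 (sup_le hRM (zpowers_le.2 hm) (ht.norm ▸ le_norm hRS hV h1))
  · exact h.1 rfl
  · obtain ⟨s, hs, hsR⟩ := hR.exists_notMem hF d.pg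
    refine hsR ((hR.isRadical d.pg).mem_of_frattini d.pg hR.isCentric hs fun x hx => ?_)
    have h1 : x⁻¹ * (s * x * s⁻¹) ∈ R := R.mul_mem (R.inv_mem hx) ((mem_normalizer_iff.1 hs.2 x).1 hx)
    have h3 : x⁻¹ * (s * x * s⁻¹) ∈ ⁅S, S⁆ := by
      rw [conj_comm]; exact cm (S.inv_mem (hRS hx)) hs.1
    have h2 : (⟨_, h1⟩ : R) ^ 2 = 1 := Subtype.ext (d.sqV _ h3)
    have key : ∀ y : QuaternionGroup 2, y ^ 2 = 1 → ∃ u, y = u ^ 2 := by decide
    obtain ⟨u, hu⟩ := key (e ⟨_, h1⟩) (by rw [← map_pow, h2, map_one])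
    obtain ⟨u, rfl⟩ := e.surjective u
    rw [← map_pow] at hu
    exact mem_sup_right (subset_closure ⟨u, u.2, congrArg Subtype.val (e.injective hu)⟩)

theorem not_sixteen {R : Subgroup Ω} (hR : F.IsEssential 2 R) (h16 : Nat.card R = 16) :
    False := by
  have hRS := hR.le
  have := finite_of_le hRS
  have hi : R.relIndex S = 2 := by
    have := card_mul_relIndex hRS
    rw [h16, d.card] at this
    omega
  have hV : ⁅S, S⁆ ≤ R := by
    rw [commutator_le]
    intro x hx y hy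
    rw [commutatorElement_def, mul_assoc (x * y)]
    refine mul_mem_of_dvd_two hi.dvd (mul_mem hx hy) (mul_mem (inv_mem hx) (inv_mem hy)) ?_
    rw [show x * y ∈ R ↔ _ from mul_mem_iff_of_index_two (H := R.subgroupOf S) hi (a := ⟨x, hx⟩)
      (b := ⟨y, hy⟩), show x⁻¹ * y⁻¹ ∈ R ↔ _ from mul_mem_iff_of_index_two (H := R.subgroupOf S) hi
      (a := ⟨x, hx⟩⁻¹) (b := ⟨y, hy⟩⁻¹), inv_mem_iff, inv_mem_iff]
  have hY : InvA (F.autGroup R) ⁅R, R⁆ := (invA_top _).commutator (invA_top _)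
  have hRR : ⁅R, R⁆ ≤ ⁅S, S⁆ := commutator_mono hRS hRS
  by_cases hRM : R ≤ MM S
  · have := finite_of_le (inf_le_left : MM S ≤ S)
    have e : R = MM S := eq_of_le_of_card_ge hRM (by rw [d.cardM, h16])
    obtain ⟨s, hs, hsM⟩ := d.exists_t
    have hVX : ⁅S, S⁆ ≤ centralizerIn R R := fun v hv =>
      ⟨hV hv, fun x hx => ((hRM hx).2 v hv).symm⟩
    have hw : zpowers w ≤ ⁅R, R⁆ := by
      have h1 := d.nab
      push Not at h1
      obtain ⟨a, ha, b, hb, h2⟩ := h1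
      rw [zpowers_le, ← (d.memW.1 (d.commM ha hb)).resolve_left
        fun e => h2 (commutatorElement_eq_one_iff_mul_comm.1 e)]
      exact commutator_mem_commutator (e ▸ ha) (e ▸ hb)
    refine hsM (hRM ((hR.isRadical d.pg).mem_of_chain2 d.pg hR.isCentric
      ((invA_top _).inf_centralizer (invA_top _)) hY (hRR.trans hVX) le_sup_left
      (le_norm hRS hV hs) (fun x hx => hVX ?_) fun x hx => hw ?_))
    · rw [conj_comm]
      exact cm (S.inv_mem (hRS hx)) hs
    · rw [conj_comm, ← commutatorElement_inv]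
      exact inv_mem (d.commV hs (inv_mem (d.memV_of (hRM hx.1) fun y hy => hx.2 y (e ▸ hy))))
  obtain ⟨g, hg, hgM⟩ := SetLike.not_le_iff_exists.1 hRM
  have h1 : (MM S).relIndex R = 2 := by
    refine index_eq_two_iff.2 ⟨⟨g, hg⟩, fun b => ?_⟩
    by_cases hb : (b : Ω) ∈ MM S
    · exact Or.inr ⟨hb, fun e => hgM ((mul_mem_cancel_left hb).1 e)⟩
    · exact Or.inl ⟨d.mul_memM (hRS b.2) (hRS hg) hb hgM, hb⟩
  have h2 : Nat.card (MM S ⊓ R : Subgroup Ω) = 8 := by
    have := card_mul_relIndex (inf_le_right : MM S ⊓ R ≤ R)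
    rw [inf_relIndex_right, h1, h16] at this
    omega
  have h3 : (⁅S, S⁆ : Subgroup Ω).relIndex (MM S ⊓ R) ∣ 2 := by
    have := card_mul_relIndex (le_inf d.VM hV)
    rw [h2, d.cardV] at this
    exact (show _ = 2 by omega).dvd
  have hΩ : omegaOne 2 R ≤ MM S ⊓ R := (closure_le _).2 fun x hx =>
    ⟨d.memM_of_sq (hRS hx.1) (by rw [hx.2]; exact one_mem _), hx.1⟩
  have hVX : MM S ⊓ R ≤ R ⊓ centralizer (omegaOne 2 R : Set Ω) := fun x hx =>
    ⟨hx.2, fun y hy => comm_of_dvd_two h3 (fun a ha x hx => hx.1.2 a ha) (hΩ hy) hx⟩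
  obtain ⟨s, hs, hsR⟩ := SetLike.not_le_iff_exists.1 (show ¬ MM S ≤ R from fun h => by
    rw [inf_eq_left.2 h, d.cardM] at h2
    omega)
  obtain ⟨v, hv, e⟩ := d.exists_v (hRS hg) hgM
  refine hsR ((hR.isRadical d.pg).mem_of_chain2 d.pg hR.isCentric
    ((invA_top _).inf_centralizer ((invA_top _).omegaOne 2)) hY
    (hRR.trans ((le_inf d.VM hV).trans hVX)) le_sup_left (le_norm hRS hV hs.1)
    (fun x hx => hVX (le_inf d.VM hV ?_)) fun x hx => ?_)
  · rw [conj_comm]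
    exact cm (S.inv_mem (hRS hx)) hs.1
  · rw [conj_comm]
    refine zpowers_le.2 (e ▸ commutator_mem_commutator hg (hV hv)) (d.commM (inv_mem ?_) hs)
    exact ⟨hRS hx.1, fun u hu => hx.2 u (subset_closure ⟨hV hu, d.sqV u hu⟩)⟩

end Dat

end FG

theorem FamG.eq_inner {Ω : Type*} [Group Ω] {S : Subgroup Ω} [Finite S] {F : FusionSystem S}
    (h : FamG S) (hF : F.IsSaturated 2) : F = innerFusionSystem S := by
  obtain ⟨w, d⟩ := FG.exists_dat h
  refine eq_inner_of_no_essential hF d.pg (fun R hR => ?_) d.aut_pg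
  have hlt := hF.lt_of_isEssential d.pg hR
  have h8 := d.eight_le hR.le fun _ hs => hR.isCentric.mem hs
  have h1 := card_dvd_of_le hR.le
  rw [d.card] at h1
  obtain ⟨i, hi, e⟩ := (Nat.dvd_prime_pow Nat.prime_two).1 (show _ ∣ 2 ^ 5 from h1)
  interval_cases i
  iterate 3 omega
  · exact d.not_eight hF hR e
  · exact d.not_sixteen hR e
  · exact hlt.ne (eq_of_le_of_card_ge hR.le (by rw [e, d.card]; rfl))

end Cfsg.Agent.KB
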