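import Mathlib
import Cfsg.Agent.Fus.AbIndex
import Cfsg.Agent.KB.Foc16

/-!
# Elements that are not fused into the centre or into an abelian maximal subgroup
-/

set_option autoImplicit false

namespace Cfsg.Agent.KB

open Subgroup Cfsg.FusionSystem Cfsg.Agent.Fus
open scoped commutatorElement

variable {Ω : Type*} [Group Ω] {S : Subgroup Ω} [Finite S] {F : FusionSystem S} {p : ℕ}
  [Fact p.Prime]

/-- A property that is invariant under `Aut_F(S)` and fails on the essential subgroups is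
invariant under fusion. -/
theorem fused_pred (hF : F.IsSaturated p) (hS : IsPGroup p S) {N : S → Prop}
    (h1 : ∀ α ∈ F.autGroup S, ∀ v, N v → N (α v))
    (h2 : ∀ R, F.IsEssential p R → ∀ v : S, (v : Ω) ∈ R → ¬ N v) {x y : S} (hx : N x)
    (h : F.IsConjElt x y) : N y := by
  obtain ⟨P, f, hf, hP, e⟩ := isConjElt_iff.1 h
  refine hF.alperin_induction hS (M := fun f => ∀ v : S, (v : Ω) = f x → N v)
    (fun v hv => Subtype.ext hv ▸ hx) (fun h e v hv => h v (hv.trans (e _ hP).symm))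
    (fun {f R g} h3 h4 h5 h6 h7 v hv => ?_) hf y e.symm
  have h8 := h4 ⟨_, h3.mem hP⟩ rfl
  rcases h5 with rfl | h5
  · obtain ⟨α, hα, e⟩ := h6.exists_aut
    obtain rfl : v = α ⟨_, h3.mem hP⟩ := 
      Subtype.ext (hv.trans ((e _ (h3.mem hP)).symm.trans (totA_apply _ _)))
    exact h1 α hα _ h8
  · exact absurd h8 (h2 R h5 _ (h7 _ hP))

omit [Finite S] in
theorem coe_mem_centralizerIn {z : S} : (z : Ω) ∈ centralizerIn S S ↔ z ∈ Subgroup.center S :=
  ⟨fun h => mem_center_iff.2 fun y => Subtype.ext (h.2 y y.2),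
    fun h => ⟨z.2, fun y hy => congrArg Subtype.val (mem_center_iff.1 h ⟨y, hy⟩)⟩⟩

omit [Finite S] in
theorem map_center : (Subgroup.center S).map S.subtype = centralizerIn S S := by
  ext x
  exact ⟨fun ⟨z, hz, e⟩ => e ▸ coe_mem_centralizerIn.2 hz,
    fun h => ⟨⟨x, h.1⟩, coe_mem_centralizerIn.1 h, rfl⟩⟩

theorem aut_mem_center {Q : Type*} [Group Q] (α : MulAut Q) {z : Q} :
    α z ∈ Subgroup.center Q ↔ z ∈ Subgroup.center Q :=
  ⟨fun h => mem_center_iff.2 fun y => α.injective (by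
    rw [map_mul, map_mul, mem_center_iff.1 h]), fun h => mem_center_iff.2 fun y => by
      obtain ⟨y, rfl⟩ := α.surjective y
      rw [← map_mul, ← map_mul, mem_center_iff.1 h]⟩

theorem card_cent_aut {Q : Type*} [Group Q] (α : MulAut Q) (v : Q) :
    Nat.card (centralizer ({α v} : Set Q)) = Nat.card (centralizer ({v} : Set Q)) :=
  (Nat.card_congr (α.toEquiv.subtypeEquiv fun x => by
    simp only [SetLike.mem_coe, mem_centralizer_singleton_iff, MulEquiv.toEquiv_eq_coe,
      EquivLike.coe_coe, ← map_mul, α.injective.eq_iff])).symm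

/-- If the centre has index four, some element of order at least four is not fused into it. -/
theorem exists_not_fused_center (hF : F.IsSaturated 2) (hS : IsPGroup 2 S)
    (hZ : (Subgroup.center S).index = 4) :
    ∃ x : S, x ^ 2 ≠ 1 ∧ ∀ z ∈ Subgroup.center S, ¬ F.IsConjElt x z := by
  obtain ⟨c, hc, hc1, hc2, hc3⟩ := foc16_commutator hZ
  have key : ∀ R, F.IsEssential 2 R → (∀ z ∈ Subgroup.center S, z ^ 2 ≠ c) ∧
      ∀ v : S, (v : Ω) ∈ R → ∃ z ∈ Subgroup.center S, v ^ 2 = z ^ 2 := by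
    intro R hR
    obtain ⟨s, hs, hsR⟩ := SetLike.exists_of_lt (hF.lt_of_isEssential hS hR)
    have hc2' : (c : Ω) ^ 2 = 1 := congrArg Subtype.val hc2
    obtain ⟨h1, -, X, Y, k, ht, h2⟩ := exists_transv_of_commutator_le hF hS
      (coe_mem_centralizerIn.2 hc) hc2' (by
        rw [← map_subtype_commutator, hc3, MonoidHom.map_zpowers]; rfl) hR hs hsR
    have hY : Y ≤ centralizerIn S S := h2 ▸ le_sup_left
    have hYn : ∀ K ≤ S, K ≤ normalizer (Y : Set Ω) := fun K hK x hx =>
      centralizer_le_normalizer _ fun y hy => ((hY hy).2 x (hK hx)).symm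
    refine ⟨fun z hz e => ?_, fun v hv => ?_⟩
    · obtain ⟨a, ha, y, hy, e1⟩ := (mem_sup_of_le_normalizer (hYn _ (zpowers_le.2 c.2))).1
        ((h2.trans (sup_comm _ _)).le (coe_mem_centralizerIn.2 hz))
      have h3 : a ^ 2 = 1 := by
        obtain ⟨i, rfl⟩ := ha
        simp only [← zpow_natCast, ← zpow_mul, mul_comm i]
        rw [zpow_mul, zpow_natCast, hc2', one_zpow]
      have h4 : (c : Ω) = y ^ 2 := by
        rw [← e, coe_pow, ← e1, (show Commute a y from (hY hy).2 a
          (zpowers_le.2 c.2 ha)).mul_pow, h3, one_mul]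
      exact ht.aW (ht.inf ⟨ht.aX, h4 ▸ pow_mem hy 2⟩)
    · obtain ⟨a, ha, y, hy, e1⟩ := (mem_sup_of_le_normalizer
        (hYn _ (ht.invX.1.trans hR.le))).1 (ht.sup.ge hv)
      refine ⟨⟨y, (hY hy).1⟩, coe_mem_centralizerIn.1 (hY hy), Subtype.ext ?_⟩
      rw [coe_pow, ← e1, (show Commute a y from (hY hy).2 a
        (hR.le (ht.invX.1 ha))).mul_pow, mem_bot.1 (ht.sec.pow_mem' ha), one_mul]
      rfl
  by_cases h : ∀ v : S, ∃ z ∈ Subgroup.center S, v ^ 2 = z ^ 2
  · obtain ⟨a, b, hab⟩ : ∃ a b : S, a * b ≠ b * a := by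
      by_contra! h1
      rw [show Subgroup.center S = ⊤ from eq_top_iff.2 fun x _ => mem_center_iff.2 fun y =>
        h1 y x, index_top] at hZ
      omega
    have h1 : ⁅a, b⁆ = c := by
      have h2 : ⁅a, b⁆ ∈ zpowers c := hc3 ▸ commutator_mem_commutator (mem_top a) (mem_top b)
      obtain ⟨i, h2⟩ := h2
      rcases Int.even_or_odd' i with ⟨j, rfl | rfl⟩
      · refine absurd (commutatorElement_eq_one_iff_mul_comm.1 ?_) hab
        rw [← h2]
        simp only [zpow_mul, zpow_ofNat, hc2, one_zpow]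
      · rw [← h2]
        simp only [zpow_add, zpow_mul, zpow_ofNat, hc2, one_zpow, one_mul, pow_one]
    have h2 : ⁅a, b⁆ = (a * b) ^ 2 * (b⁻¹ * a⁻¹ * b) ^ 2 * b⁻¹ ^ 2 := by
      simp only [commutatorElement_def, sq]; group
    have hne : ∀ R, ¬ F.IsEssential 2 R := fun R hR => by
      obtain ⟨x, hx, e1⟩ := h (a * b)
      obtain ⟨y, hy, e2⟩ := h (b⁻¹ * a⁻¹ * b)
      obtain ⟨z, hz, e3⟩ := h b⁻¹
      refine (key R hR).1 (x * y * z) (mul_mem (mul_mem hx hy) hz) ?_
      rw [(show Commute (x * y) z from mem_center_iff.1 hz _).mul_pow,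
        (show Commute x y from mem_center_iff.1 hy _).mul_pow, ← e1, ← e2, ← e3, ← h2, h1]
    obtain ⟨x, hx, hx2⟩ : ∃ x : S, x ∉ Subgroup.center S ∧ x ^ 2 ≠ 1 := by
      by_contra! h3
      have e1 := h3 a fun e => hab (mem_center_iff.1 e b).symm
      have e2 := h3 b fun e => hab (mem_center_iff.1 e a)
      have e3 := h3 (a * b) fun e => hab (mul_left_cancel
        ((mem_center_iff.1 e a).trans (mul_assoc _ _ _)))
      rw [sq, mul_eq_one_iff_eq_inv] at e1 e2 e3
      exact hab (by rw [e3, mul_inv_rev, ← e1, ← e2])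
    exact ⟨x, hx2, fun z hz h3 => fused_pred hF hS (N := fun v => v ∉ Subgroup.center S)
      (fun α _ v hv => (aut_mem_center α).not.2 hv) (fun R hR => absurd hR (hne R)) hx h3 hz⟩
  · obtain ⟨x, hx⟩ := not_forall.1 h
    refine ⟨x, fun e => hx ⟨1, one_mem _, by rw [e, one_pow]⟩, fun z hz h3 => fused_pred hF hS
      (N := fun v => ¬ ∃ z ∈ Subgroup.center S, v ^ 2 = z ^ 2) (fun α _ v hv ⟨y, hy, e⟩ => ?_)
      (fun R hR v hv => not_not.2 ((key R hR).2 v hv)) hx h3 ⟨z, hz, rfl⟩⟩
    obtain ⟨y, rfl⟩ := α.surjective y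
    exact hv ⟨y, (aut_mem_center α).1 hy, α.injective (by rw [map_pow, map_pow, e])⟩

omit [Finite S] in
theorem abIdx_map (hS : IsPGroup p S) {A : Subgroup S} (hA : A.index = p)
    (hab : ∀ x ∈ A, ∀ y ∈ A, x * y = y * x) (hna : ¬ ∀ x y : S, x * y = y * x) :
    AbIdx p S (A.map S.subtype) :=
  ⟨hS, map_subtype_le _, by
    rintro _ ⟨x, hx, rfl⟩ _ ⟨y, hy, rfl⟩
    exact congrArg Subtype.val (hab x hx y hy), by rwa [relIndex_map_subtype_top],
    fun h => hna h.is_comm.comm⟩

/-- Order `32`, an abelian subgroup of index two, `S' = Z(S)` of order four. -/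
theorem card_cent_le_of_fused (hF : F.IsSaturated 2) {A : Subgroup S} (hA : A.index = 2)
    (hab : ∀ x ∈ A, ∀ y ∈ A, x * y = y * x) (h32 : Nat.card S = 32)
    (hc : commutator S = Subgroup.center S) (h4 : Nat.card (Subgroup.center S) = 4) {x y : S}
    (hx : Nat.card (centralizer ({x} : Set S)) ≤ 8) (h : F.IsConjElt x y) :
    Nat.card (centralizer ({y} : Set S)) ≤ 8 := by
  have hS : IsPGroup 2 S := IsPGroup.of_card (n := 5) h32
  have h8 : (Subgroup.center S).index = 8 := by
    have := (Subgroup.center S).card_mul_index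
    rw [h4, h32] at this
    omega
  have hI := abIdx_map hS hA hab fun h1 => by
    rw [show Subgroup.center S = ⊤ from eq_top_iff.2 fun x _ => mem_center_iff.2 fun y =>
      h1 y x, index_top] at h8
    omega
  have h2 : cent2 S = S := le_antisymm cent2_le fun x hx => mem_cent2.2 ⟨hx, fun s hs => by
    rw [← map_center, ← hc, map_subtype_commutator]
    exact commutator_mem_commutator hx hs⟩
  refine fused_pred hF hS (N := fun v => Nat.card (centralizer ({v} : Set S)) ≤ 8)
    (fun α _ v hv => by rwa [card_cent_aut]) (fun R hR v hv h1 => ?_) hx h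
  by_cases hRA : R = A.map S.subtype
  · have h3 : v ∈ A := (mem_map_iff_mem S.subtype_injective).1 (hRA ▸ hv)
    have h5 := card_le_of_le (show A ≤ centralizer {v} from fun a ha =>
      mem_centralizer_singleton_iff.2 (hab a ha v h3))
    have h6 := A.card_mul_index
    rw [hA, h32] at h6
    omega
  by_cases hcm : IsMulCommutative R
  · obtain ⟨-, -, -, -, h3, -⟩ := hI.ess_comm hF hR hRA hcm
    have h5 := relIndex_mul_relIndex _ _ _ hI.center_le hI.le
    rw [h2, inf_eq_right.2 hI.le] at h3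
    rw [h3, hI.idx, ← map_center, relIndex_map_subtype_top, h8] at h5
    omega
  · obtain ⟨-, -, -, -, -, -, h3⟩ := hI.ess_not_comm hF hR hRA hcm
    rw [h2, ← map_center, relIndex_map_subtype_top, h8] at h3
    omega

end Cfsg.Agent.KB
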