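import Mathlib
import Cfsg.Agent.KB.FusCen
import Cfsg.Agent.KB.FamApi
import Cfsg.Agent.Fus.EssMisc
import Cfsg.Agent.Fus.EssLocal
import Cfsg.Agent.Blk.TameFus

/-!
# Fusion systems on the groups of the family `FamA`
-/

set_option autoImplicit false

namespace Cfsg.Agent.KB

open Subgroup MulAction Cfsg.FusionSystem Cfsg.Agent.Fus Cfsg.Agent.GT.PG

variable {Ω : Type*} [Group Ω] {S P : Subgroup Ω} {F : FusionSystem S} {p : ℕ} {f : Ω → Ω}

theorem centralizerIn_zpowers (w : S) :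
    centralizerIn S (zpowers (w : Ω)) = (centralizer {w}).map S.subtype := by
  ext x
  refine ⟨fun h => ⟨⟨x, h.1⟩, mem_centralizer_singleton_iff.2
    (Subtype.ext (h.2 _ (mem_zpowers _)).symm), rfl⟩, ?_⟩
  rintro ⟨y, hy, rfl⟩
  refine ⟨y.2, ?_⟩
  rintro _ ⟨i, rfl⟩
  exact ((show Commute (y : Ω) w from congrArg Subtype.val
    (mem_centralizer_singleton_iff.1 hy)).zpow_right i).eq.symm

theorem img_zpowers (hf : F.Mor P f) {x : Ω} (hx : x ∈ P) : img f (zpowers x) = zpowers (f x) :=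
  le_antisymm (img_le_iff.2 (by
    rintro _ ⟨i, rfl⟩
    exact ⟨i, (hf.map_zpow hx i).symm⟩)) (zpowers_le.2 (mem_img_of_mem (mem_zpowers x)))

theorem isConjElt_symm {x y : Ω} (h : F.IsConjElt x y) : F.IsConjElt y x := by
  obtain ⟨P, f, hf, hx, rfl⟩ := isConjElt_iff.1 h
  obtain ⟨g, hg, h1, -⟩ := hf.inv
  exact isConjElt_iff.2 ⟨_, g, hg.mor, mem_img_of_mem hx, h1 x hx⟩

theorem isConjElt_trans {x y z : Ω} (h : F.IsConjElt x y) (h' : F.IsConjElt y z) :
    F.IsConjElt x z := by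
  obtain ⟨P, f, hf, hx, rfl⟩ := isConjElt_iff.1 h
  obtain ⟨Q, g, hg, hy, rfl⟩ := isConjElt_iff.1 h'
  exact (hg.comp (hf.mono (zpowers_le.2 hx)) fun w hw => zpowers_le.2 hy
    (img_zpowers hf hx ▸ mem_img_of_mem hw)).isConjElt (mem_zpowers x)

theorem isConjElt_conj (F : FusionSystem S) (s x : S) : F.IsConjElt x (s * x * s⁻¹ : S) :=
  (F.mor_conj le_rfl s.2).isConjElt x.2

variable [Finite S] [Fact p.Prime]

theorem exists_extend (hF : F.IsSaturated p) (hS : IsPGroup p S) {u v : S} (h : F.IsConjElt u v)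
    (hfc : ∀ w : S, F.IsConjElt v w →
      Nat.card (centralizer ({w} : Set S)) ≤ Nat.card (centralizer ({v} : Set S))) :
    ∃ g, F.Mor ((centralizer {u}).map S.subtype) g ∧ g u = v := by
  obtain ⟨P, f, hf, hu, e⟩ := isConjElt_iff.1 h
  have h1 : F.IsFullyCentralized (zpowers (v : Ω)) := ⟨zpowers_le.2 v.2, fun Q hQ => by
    obtain ⟨k, hk⟩ := hQ.exists_iso
    have h2 := hk.mor.mem (mem_zpowers _)
    rw [← hk.img_eq, img_zpowers hk.mor (mem_zpowers _), centralizerIn_zpowers ⟨_, h2⟩,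
      centralizerIn_zpowers, card_map_of_injective S.subtype_injective,
      card_map_of_injective S.subtype_injective]
    exact hfc _ (hk.mor.isConjElt (mem_zpowers _))⟩
  obtain ⟨g, hg, h2⟩ := hF.extend_centralizerIn hS h1
    ((hf.mono (zpowers_le.2 hu)).iso_of_img_eq (by rw [img_zpowers hf hu, e]))
  exact ⟨g, hg.mono (centralizerIn_zpowers u ▸ le_sup_right), (h2 _ (mem_zpowers _)).trans e⟩

theorem exists_conj_of_iso (hF : F.IsSaturated p) (hS : IsPGroup p S)
    (hn : S ≤ normalizer (P : Set Ω)) (hP : IsPGroup p (MulAut P)) (hf : F.Iso P P f) :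
    ∃ s ∈ S, ∀ x ∈ P, f x = s * x * s⁻¹ := by
  obtain ⟨s, hs, h1⟩ := mem_autInducedBy.1 ((hF.fullyAutomized hS
    (F.isFullyNormalized_of_le_normalizer hf.le_left hn)).le_of_isPGroup hS (hP.to_subgroup _)
      le_rfl (F.autInducedBy_le_autGroup hf.le_left) hf.aut_mem)
  exact ⟨s, hs, fun x hx => h1 ⟨x, hx⟩⟩

/-- Every element of an essential subgroup is fused into the abelian subgroup of prime index. -/
theorem exists_fused_of_ess {A : Subgroup Ω} (h : AbIdx p S A) (hF : F.IsSaturated p)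
    (hP : F.IsEssential p P) {r : Ω} (hr : r ∈ P) : ∃ y ∈ A, F.IsConjElt r y := by
  have h0 := (F.mor_id hP.le).isConjElt hr
  by_cases hPA : P = A
  · exact ⟨r, hPA ▸ hr, h0⟩
  obtain ⟨x, hx, hxA, -, s, hs, -, X, Y, c, ht⟩ := h.exists_transv hF hP hPA
  have hW : ⁅P, P⁆ ≤ A := (commutator_mono hP.le hP.le).trans h.commutator_le
  have ha : x⁻¹ * (s * x * s⁻¹) ∈ A := by
    rw [comm_mem_iff_conj]
    exact h.comm_mem (inv_mem (hP.le hx)) hs
  have hY : Y ≤ A := fun y hy => by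
    by_contra hyA
    have hyP := ht.invY.1 hy
    obtain ⟨b, hb, i, e⟩ := (mem_sup_zpowers_of_mem_normalizer (h.hn (hP.le hyP))).1
      ((h.sup (hP.le hyP) hyA).ge (hP.le hx))
    have hbP : b ∈ P := by simpa [← e] using mul_mem hx (inv_mem (zpow_mem hyP i))
    refine ht.aW ((ht.fix x hx).2 ?_)
    nth_rw 3 [← e]
    exact mul_mem ((ht.fix b hbP).1 (by rw [h.comm s hs b hb]; simp))
      (mem_sup_left (zpow_mem hy i))
  obtain ⟨b, hb, y, hy, rfl⟩ := (Fus.mem_sup_of_le_normalizer (ht.invX.1.trans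
    (le_normalizer_of_comm_le le_rfl ht.leY ht.invY.1))).1 (ht.sup.ge hr)
  by_cases hbW : b ∈ ⁅P, P⁆
  · exact ⟨_, mul_mem (hW hbW) (hY hy), h0⟩
  obtain ⟨γ, -, hγ, h1⟩ := ht.sec.exists_map (K := ⊤) (fun _ _ => trivial) hb hbW ht.aX ht.aW
  refine ⟨_, ?_, (mor_totA hP.le hγ.2).isConjElt hr⟩
  rw [(mulOn_totA γ).map_mul (ht.invX.1 hb) (ht.invY.1 hy)]
  exact mul_mem ((mul_mem_cancel_left (inv_mem ha)).1 (hW h1))
    ((mul_mem_cancel_left (inv_mem (hY hy))).1 (hW (hγ.1.2.2 y hy (ht.invY.1 hy))))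

/-- A central involution outside the commutator subgroup that is fixed by `Aut_F(S)` is not in the
focal subgroup. -/
theorem notMem_focal_of_sq (hF : F.IsSaturated 2) (hS : IsPGroup 2 S) {z : S}
    (hz : z ∈ Subgroup.center S) (hz2 : z ^ 2 = 1) (hzc : z ∉ commutator S)
    (hiso : ∀ g, F.Iso S S g → g z = z) : (z : Ω) ∉ F.focalSubgroup := by
  classical
  refine fun hf => hzc ?_
  obtain ⟨J, _, _, ⟨D⟩⟩ := hF.exists_charData hS
  have := Fintype.ofFinite J
  let l : S →* Abelianization S := Abelianization.of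
  suffices h : D.tr l z = l z ^ Nat.card J by
    obtain ⟨u, hu, e⟩ := D.focal_le_ker_tr l hf
    obtain rfl : u = z := Subtype.ext e
    have h1 : D.tr l u = 1 := hu
    rw [h] at h1
    obtain ⟨k, hk⟩ := hS u
    have h2 := eq_one_of_pow_eq_one_of_not_dvd ⟨k, by rw [← map_pow, hk, map_one]⟩ D.not_dvd h1
    exact (QuotientGroup.eq_one_iff _).1 h2
  have hcomm : ∀ (s : S) (j : J), z • s • j = s • z • j := fun s j => by
    rw [← mul_smul, ← mul_smul, mem_center_iff.1 hz s]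
  have h1 := D.prod_eq_pow l z (Finset.univ.filter fun j => ¬ z • j = j)
    (fun j hj => by
      simp only [Finset.mem_filter, Finset.mem_univ, true_and] at hj ⊢
      exact fun e => hj (MulAction.injective z e)) (l z) fun j hj k hk => by
      simp only [Finset.mem_filter, Finset.mem_univ, true_and] at hj
      rcases Nat.even_or_odd' k with ⟨m, rfl | rfl⟩
      · rw [← map_pow, pow_mul, hz2, one_pow, D.t_one]
      · rw [pow_succ, pow_mul, hz2, one_pow, one_mul] at hk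
        exact absurd hk hj
  have h2 := prod_eq_one_of_orbits (G := S) (Finset.univ.filter fun j => z • j = j)
    (fun s j hj => by
      simp only [Finset.mem_filter, Finset.mem_univ, true_and] at hj ⊢
      rw [hcomm, hj]) (fun j => l (D.t z j) * (l z)⁻¹)
    (fun s j hj => by
      simp only [Finset.mem_filter, Finset.mem_univ, true_and] at hj
      have e1 := D.t_mul z s j
      have e2 := D.t_mul s z j
      rw [hj, mem_center_iff.1 hz s, e1] at e2
      have e3 := congrArg l e2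
      rw [map_mul, map_mul, mul_comm (l (D.t s j))] at e3
      rw [mul_right_cancel e3])
    (fun j hj => by
      simp only [Finset.mem_filter, Finset.mem_univ, true_and] at hj
      by_cases hj' : stabilizer S j = ⊤
      · obtain ⟨f, hf, e⟩ := D.gen j
        rw [hj', ← MonoidHom.range_eq_map, range_subtype] at hf
        rw [show D.t z j = z from Subtype.ext ((e z hj).trans (hiso f hf.iso_top)),
          mul_inv_cancel, one_pow]
      · obtain ⟨k, hk⟩ := hS.index (stabilizer S j)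
        have hk0 : k ≠ 0 := fun e => hj' (index_eq_one.1 (by rw [hk, e, pow_zero]))
        have h3 : D.t z j ^ 2 = 1 := by
          rw [← orderOf_dvd_iff_pow_eq_one, D.orderOf_t hj, orderOf_dvd_iff_pow_eq_one]
          exact hz2
        obtain ⟨k, rfl⟩ := Nat.exists_eq_succ_of_ne_zero hk0
        rw [hk, pow_succ', pow_mul, mul_pow, inv_pow, ← map_pow, ← map_pow, h3, hz2]
        simp)
  rw [Finset.prod_mul_distrib, Finset.prod_const, inv_pow, mul_inv_eq_one] at h2
  rw [D.tr_apply, ← Finset.prod_filter_mul_prod_filter_not Finset.univ (fun j => z • j = j),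
    h1, h2, ← pow_add, Finset.card_filter_add_card_filter_not, Nat.card_eq_fintype_card,
    Finset.card_univ]

omit [Finite S] in
theorem orderOf_eq_of_isConjElt {x y : S} (h : F.IsConjElt x y) : orderOf y = orderOf x := by
  obtain ⟨P, f, hf, hx, e⟩ := isConjElt_iff.1 h
  rw [← orderOf_coe, ← e, hf.orderOf_eq hx, orderOf_coe]

/-- Maximal class: the two classes outside the cyclic subgroup are not fused if none of them is
fused into the cyclic subgroup. -/
theorem not_fused_mul (hF : F.IsSaturated 2) {m : ℕ} {a b : S} (hm : MaxTwo m a b)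
    (hU : ∀ u ∈ zpowers a, ∀ y : S, F.IsConjElt u y → y ∈ zpowers a) (x : S) :
    ¬ F.IsConjElt x (x * a : S) := fun h => by
  have := Fintype.ofFinite S
  obtain ⟨J, _, _, ⟨D⟩⟩ := hF.exists_charData hm.isPGroup
  have := Fintype.ofFinite J
  obtain ⟨l, hl⟩ := Blk.Tm.exists_hom_a hm
  obtain ⟨P, f, hf, hx, e⟩ := isConjElt_iff.1 h
  have h1 := D.tr_stable l hf hx e.symm
  rw [map_mul, mul_eq_left, D.tr_eq_pow l a, hl,
    (Nat.odd_iff.2 (by have := D.not_dvd; omega)).neg_one_pow] at h1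
  · exact absurd (congrArg Units.val h1) (by norm_num)
  · intro k P f hf hk v hv
    have h2 : F.IsConjElt (a ^ k : S) v := hv ▸ hf.isConjElt hk
    have h3 := pow_mem (mem_zpowers a) k
    have h4 := hU _ h3 v h2
    have h5 := orderOf_eq_of_isConjElt h2
    have h6 : ∀ {u w : S}, u ∈ zpowers a → w ∈ zpowers a → orderOf u = orderOf w → l w = 1 →
        l u = 1 := fun hu hw ho e => zpowers_le.2 (MonoidHom.mem_ker.2 e)
          (FG.H93.mem_zpowers_of_orderOf_dvd_of_mem hu hw ho.dvd)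
    by_cases h7 : l v = 1
    · rw [h7, h6 h3 h4 h5.symm h7]
    · rw [Blk.Tm.hom_eq_neg_one hm l h7,
        Blk.Tm.hom_eq_neg_one hm l fun e => h7 (h6 h4 h3 h5 e)]

theorem FamB.isPGroup_mulAut {Q : Type*} [Group Q] [Finite Q] {m : ℕ} {a c t : Q}
    (h : FamB (m + 1) a c t) (hQ : IsPGroup 2 Q) : IsPGroup 2 (MulAut (fa a c)) := by
  refine Inv.Fz.isPGroup_mulAut_of_odd fun ψ hψ => MulEquiv.ext fun x =>
    fix_of_four hψ (R := ⊤) ((hQ.to_subgroup _).to_subgroup _)
      (fun x _ y _ => Subtype.ext (h.mul_comm' x.2 y.2)) (fun _ _ => trivial)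
      (z := ⟨a, a_mem_fa⟩ ^ 2 ^ m) (c := ⟨c, c_mem_fa⟩) ?_ (Subtype.ext h.z_sq)
      (Subtype.ext (h.commute.pow_left _).eq) (fun y _ hy => ?_) trivial
  · rw [map_pow]
    exact Subtype.ext (h.pow_eq_z (ψ _).2 (by rw [orderOf_coe, ψ.orderOf_eq, orderOf_mk]))
  · exact (h.cases_sq y.2 (congrArg Subtype.val hy)).imp Subtype.ext
      (.imp Subtype.ext (.imp Subtype.ext Subtype.ext))

namespace FamA

variable {m : ℕ} {a c t : S} (h : FamA (m + 1) a c t) (hF : F.IsSaturated 2) (hS : IsPGroup 2 S)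
include h hF hS

theorem exists_conj_top (hf : F.Iso S S f) : ∃ s ∈ S, ∀ x ∈ S, f x = s * x * s⁻¹ :=
  exists_conj_of_iso hF hS le_normalizer (h.isPGroup_mulAut hS) hf

theorem exists_conj_fa (hf : F.Iso ((fa a c).map S.subtype) ((fa a c).map S.subtype) f) :
    ∃ s ∈ S, ∀ x ∈ (fa a c).map S.subtype, f x = s * x * s⁻¹ :=
  haveI : Finite ((fa a c).map S.subtype) := finite_of_le (map_subtype_le _)
  exists_conj_of_iso hF hS (fun s hs => mem_normalizer_fintype (by
    rintro _ ⟨x, hx, rfl⟩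
    exact ⟨_, h.normal.conj_mem x hx ⟨s, hs⟩, rfl⟩)) (Inv.Fz.isPGroup_mulAut_of_equiv
      (equivMapOfInjective _ _ S.subtype_injective) (h.toFamB.isPGroup_mulAut hS)) hf

theorem c_notMem_focal : (c : Ω) ∉ F.focalSubgroup :=
  notMem_focal_of_sq hF hS h.cen h.sq h.c_notMem_commutator fun g hg => by
    obtain ⟨s, hs, e⟩ := h.exists_conj_top hF hS hg
    rw [e c c.2]
    exact mul_inv_eq_iff_eq_mul.2 (congrArg Subtype.val (mem_center_iff.1 h.cen ⟨s, hs⟩))

theorem isConj_of_mem {u v : S} (hu : u ∈ fa a c) (hv : v ∈ fa a c) (hc : F.IsConjElt u v) :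
    IsConj u v := by
  have key : ∀ {u v : S}, u ∈ fa a c → F.IsConjElt u v → v ∈ Subgroup.center S →
      u ∈ Subgroup.center S := fun hu hc hv => h.mem_center_of_sq hu (by
    rw [← orderOf_dvd_iff_pow_eq_one, ← orderOf_eq_of_isConjElt hc, orderOf_dvd_iff_pow_eq_one]
    exact h.sq_of_center hv)
  have top : ∀ {u : S}, u ∈ Subgroup.center S → centralizer ({u} : Set S) = ⊤ := fun hu =>
    centralizer_eq_top_iff_subset.2 (Set.singleton_subset_iff.2 hu)
  obtain ⟨g, hg, e⟩ := exists_extend hF hS hc fun w hw => by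
    by_cases h1 : v ∈ Subgroup.center S
    · exact top h1 ▸ card_le_of_le le_top
    · exact h.cent_eq hv h1 ▸ h.card_cent_le fun h2 => h1 (key hv hw h2)
  by_cases h1 : u ∈ Subgroup.center S
  · rw [top h1, ← MonoidHom.range_eq_map, range_subtype] at hg
    obtain ⟨s, hs, h2⟩ := h.exists_conj_top hF hS hg.iso_top
    exact isConj_iff.2 ⟨⟨s, hs⟩, Subtype.ext ((h2 u u.2).symm.trans e)⟩
  · rw [h.cent_eq hu h1] at hg
    have h3 : (u : Ω) ∈ (fa a c).map S.subtype := ⟨u, hu, rfl⟩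
    haveI : Finite ((fa a c).map S.subtype) := finite_of_le (map_subtype_le _)
    obtain ⟨s, hs, h2⟩ := h.exists_conj_fa hF hS (hg.iso_self fun x hx => by
      refine ⟨⟨_, hg.mem hx⟩, (h.cent_eq hv fun h4 => h1 (key hu hc h4)).le
        (mem_centralizer_singleton_iff.2 (Subtype.ext ?_)), rfl⟩
      obtain ⟨y, hy, rfl⟩ := hx
      rw [coe_mul, coe_mul, ← e]
      exact (hg.commute_iff ⟨y, hy, rfl⟩ h3).2 (congrArg Subtype.val (h.mul_comm' hy hu)))
    exact isConj_iff.2 ⟨⟨s, hs⟩, Subtype.ext ((h2 u h3).symm.trans e)⟩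

omit hF in
theorem abIdx : AbIdx 2 S ((fa a c).map S.subtype) :=
  abIdx_map hS h.index (fun _ hx _ hy => h.mul_comm' hx hy) fun h1 =>
    h.t_notMem (h.center_le (mem_center_iff.2 fun y => h1 y t))

theorem exists_fused (hP : F.IsEssential 2 P) {r : Ω} (hr : r ∈ P) :
    ∃ u ∈ fa a c, F.IsConjElt u r := by
  obtain ⟨_, ⟨u, hu, rfl⟩, h1⟩ := exists_fused_of_ess (h.abIdx hS) hF hP hr
  exact ⟨u, hu, isConjElt_symm h1⟩

theorem exists_conj_of_unfused {x : S} (hx : ∀ u ∈ fa a c, ¬ F.IsConjElt u x) (hf : F.Mor P f)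
    (hP : (x : Ω) ∈ P) : ∃ s ∈ S, ∀ y ∈ P, f y = s * y * s⁻¹ := by
  obtain ⟨g, hg, e⟩ := hF.extend_top_of_not_le_essential hS (fun k R hk hR h1 => by
    obtain ⟨u, hu, h2⟩ := h.exists_fused hF hS hR (h1 x hP)
    exact hx u hu (isConjElt_trans h2 (isConjElt_symm (hk.isConjElt hP)))) hf
  obtain ⟨s, hs, h1⟩ := h.exists_conj_top hF hS hg
  exact ⟨s, hs, fun y hy => (e y hy).symm.trans (h1 y (hf.le hy))⟩

theorem unfused_mul {x : S} (hx : ∀ u ∈ fa a c, ¬ F.IsConjElt u x) :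
    ∀ u ∈ fa a c, ¬ F.IsConjElt u (x * c : S) := fun u hu h1 => by
  refine fused_pred hF hS (N := fun v => v ∉ fa a c ∧ ∀ u ∈ fa a c, ¬ F.IsConjElt u (v * c : S))
    (fun α hα v hv => ?_) (fun R hR v hv h2 => ?_) (x := x * c) ⟨fun h2 => hx x
      ((mul_mem_cancel_right c_mem_fa).1 h2) ((F.mor_id le_rfl).isConjElt x.2), by
        rwa [mul_assoc, ← sq, h.sq, mul_one]⟩ (isConjElt_symm h1) |>.1 hu
  · obtain ⟨s, hs, e⟩ := h.exists_conj_top hF hS (iso_totA le_rfl hα)
    have h2 : α v = ⟨s, hs⟩ * v * ⟨s, hs⟩⁻¹ := Subtype.ext ((totA_coe α v).symm.trans (e v v.2))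
    rw [h2]
    refine ⟨fun h3 => hv.1 ((h.normal.mem_comm_iff.1 h3 |> fun h4 => by simpa using h4)),
      fun w hw h3 => hv.2 w hw (isConjElt_trans h3 (isConjElt_symm ?_))⟩
    convert isConjElt_conj F ⟨s, hs⟩ (v * c) using 2
    rw [mul_assoc _ _ c, mem_center_iff.1 h.cen]
    group
  · obtain ⟨w, hw, h3⟩ := h.exists_fused hF hS hR (mul_mem hv
      (AbIdx.center_le_ess hR (coe_mem_centralizerIn.2 h.cen)))
    exact h2.2 w hw h3

end FamA

end Cfsg.Agent.KB
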