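import Mathlib
import Cfsg.Agent.KB.LB
import Cfsg.Agent.KB.Defs2

/-!
# Olsson's bound from a nilpotent local block
-/

set_option autoImplicit false
set_option linter.unusedSectionVars false
set_option linter.style.haveILetI false

namespace Cfsg.Agent.KB

open MonoidAlgebra Cfsg.Agent.Blk Cfsg.Agent.Blk.Mod Cfsg.Agent.Blk.PD Cfsg.Agent.Ch Cfsg.Agent.GT
  Cfsg.Agent.Blk.Tm Cfsg.Agent.Blk.Ab Cfsg.Agent.GT.CopAct Cfsg.Agent.GT.PG Subgroup
open scoped ComplexConjugate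

universe u

theorem cases_of_pow_four {x : ℂ} (h : x ^ 4 = 1) :
    x = 1 ∨ x = -1 ∨ x = Complex.I ∨ x = -Complex.I := by
  have h7 : (x - 1) * ((x + 1) * ((x - Complex.I) * (x + Complex.I))) = 0 := by
    linear_combination h - (x ^ 2 - 1) * Complex.I_sq
  simpa only [mul_eq_zero, sub_eq_zero, add_eq_zero_iff_eq_neg] using h7

/-- The average of a generalized character over a coset of the commutator subgroup. -/
theorem exists_avg {Q : Type*} [Group Q] [Finite Q] [Fintype (commutator Q)] (hQ : IsPGroup 2 Q)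
    {θ : Q → ℂ} (hθ : IsGeneralizedCharacter Q θ) {a : Q} (h4 : a ^ 4 ∈ commutator Q) :
    ∃ x y t : ℤ, θ 1 = t ∧ 2 ∣ x + y - t ∧
      ∑ d : commutator Q, θ (d * a) = Nat.card (commutator Q) * (x + y * Complex.I) := by
  have key : ∀ χ, IsCharacter Q χ → ∃ x y t : ℤ, χ 1 = t ∧ 2 ∣ x + y - t ∧
      ∑ d : commutator Q, χ (d * a) = Nat.card (commutator Q) * (x + y * Complex.I) := by
    intro χ hχ
    refine hχ.induction_on ⟨0, 0, 0, by simp⟩ (fun χ hχ => ?_) ?_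
    · by_cases h1 : commutator Q ≤ charKer χ
      · have h2 := hχ.apply_one_eq_one_iff_commutator_le.2 h1
        obtain ⟨f, hf⟩ := hχ.isCharacter.exists_monoidHom_of_apply_one h2
        have h3 : χ a ^ 4 = 1 := by
          rw [← h2, ← apply_eq_of_mem_charKer (h1 h4), hf]
          simp
        rw [Finset.sum_congr rfl fun d _ => apply_mul_of_mem_charKer (h1 d.2) a, Finset.sum_const,
          nsmul_eq_mul, Finset.card_univ, ← Nat.card_eq_fintype_card]
        rcases cases_of_pow_four h3 with h5 | h5 | h5 | h5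
        exacts [⟨1, 0, 1, by simp [h2, h5]⟩, ⟨-1, 0, 1, by simp [h2, h5]⟩,
          ⟨0, 1, 1, by simp [h2, h5]⟩, ⟨0, -1, 1, by simp [h2, h5]⟩]
      · obtain ⟨n, hn⟩ := hQ.exists_card_eq
        obtain ⟨k, -, hk⟩ := (Nat.dvd_prime_pow Nat.prime_two).1 (hn ▸ hχ.charDegree_dvd_card)
        have h2 := hχ.isCharacter.coe_charDegree
        refine ⟨0, 0, 2 ^ k, by rw [← h2, hk]; simp, ?_, by simp [hχ.sum_normal_eq_zero _ h1]⟩
        rcases k with _ | k
        · exact absurd (hχ.apply_one_eq_one_iff_commutator_le.1 (by rw [← h2, hk]; simp)) h1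
        · exact ⟨-2 ^ k, by ring⟩
    · rintro χ ψ - - ⟨x, y, t, h1, h2, h3⟩ ⟨x', y', t', h1', h2', h3'⟩
      refine ⟨x + x', y + y', t + t', by simp [h1, h1'], by omega, ?_⟩
      simp only [Pi.add_apply, Finset.sum_add_distrib, h3, h3']
      push_cast
      ring
  obtain ⟨χ, ψ, hχ, hψ, rfl⟩ := hθ
  obtain ⟨x, y, t, h1, h2, h3⟩ := key χ hχ
  obtain ⟨x', y', t', h1', h2', h3'⟩ := key ψ hψ
  refine ⟨x - x', y - y', t - t', by simp [h1, h1'], by omega, ?_⟩
  simp only [Pi.sub_apply, Finset.sum_sub_distrib, h3, h3']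
  push_cast
  ring

variable {G : Type u} [Group G] [Fintype G] {p : ℕ} [hp : Fact p.Prime] {M : Ideal AlgInt}
  [M.IsMaximal] {B : Set (IrrCharacter G)} {P : Subgroup G} {e : (Res M)[G]} {v w : P}

theorem MP.isConjElt_iff (h : MP p M B P e) {F : FusionSystem P}
    (hF : IsFus p ⊤ ⊤ P e F) : F.IsConjElt v w ↔ FConj p e v w := by
  haveI := h.hM.charP
  constructor
  · rintro ⟨φ, hφ, h1⟩
    obtain ⟨x, hx, h2⟩ := (hF _ _).1 (FusionSystem.mor_tot hφ)
    exact ⟨x, hx, by rw [← h2 _ (mem_zpowers _), Fus.tot_apply _ (mem_zpowers _), h1]⟩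
  · rintro ⟨x, hx, h1⟩
    exact h1 ▸ (hF.mor hx).isConjElt (mem_zpowers _)

/-- Fusion inside a nilpotent local block is inner. -/
theorem exists_mem_of_loc (hM : IsPModular p M) {Q T R : Subgroup G} {f : (Res M)[G]}
    (h : Mod.Sub p ⊤ Q f P e) (h0 : Q ≤ T) (h1 : ℭ[Q] ≤ T) (h2 : T ≤ pstab ⊤ Q f)
    (hD : IsDef p T f (P ⊓ T)) (hnil : ∀ R ≤ P ⊓ T, ∀ x ∈ T, x ∈ normalizer (R : Set G) →
      ¬ p ∣ orderOf x → x ∈ ℭ[R]) (hR : R ≤ T) (hT : ℭ[R] ≤ T) {x : G} (hx : x ∈ T)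
    (hz : Fz p ⊤ ⊤ P e R x) : ∃ u ∈ P, u⁻¹ * x ∈ ℭ[R] := by
  haveI := hM.charP
  haveI := Fintype.ofFinite T
  obtain ⟨b, e₀, hL, -⟩ := exists_loc hM h h0 h1 h2 hD
  have hI : InnerFz p ⊤ ⊤ (P.subgroupOf T) e₀ := by
    refine innerFz_of hL.blk.isPrim_ZA_top hL.max fun R hR x hx ho => ?_
    refine (mem_centralizer_map T.subtype_injective).1 (hnil _ ?_ x x.2
      ((mem_normalizer_map T.subtype_injective).2 hx) (by rwa [orderOf_coe]))
    rw [← subgroupOf_map_subtype]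
    exact map_mono hR
  obtain ⟨u, hu, h3⟩ := hI _ _ ((loc_fz_iff hM hL hR hT ⟨x, hx⟩).2 hz)
  exact ⟨u, hu, fun y hy => congrArg Subtype.val (h3 ⟨y, hR hy⟩ hy)⟩

namespace MP

variable (h : MP 2 M B P e)
include h

theorem exists_theta {j : P} (hn : (zpowers j).Normal)
    (hnil : ∀ R ≤ P, ∀ x ∈ ℭ[zpowers (j : G)], x ∈ normalizer (R : Set G) → ¬ 2 ∣ orderOf x →
      x ∈ ℭ[R]) :
    (∃ A : IrrCharacter G → P → ℂ, (∀ χ, IsGeneralizedCharacter P (A χ)) ∧
      ∀ v : P, j ∈ zpowers v → ∀ χ ψ : IrrCharacter G,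
        Nat.card (centralizer ({v} : Set P)) * mm 2 e χ ψ v = A χ v * conj (A ψ v)) ∧
    ∀ v w : P, j ∈ zpowers v → j ∈ zpowers w → FConj 2 e v w → IsConj v w := by
  haveI := h.hM.charP
  have hf := sub_sb h.hM h.pair j.2
  have h0 : P ≤ normalizer (zpowers (j : G) : Set G) := fun g hg =>
    Tm.mem_normalizer_zpowers (coe_mem_zpowers.2 (hn.conj_mem j (mem_zpowers j) ⟨g, hg⟩))
  have h1 : P ≤ pstab ⊤ (zpowers (j : G)) (sb 2 P e j) :=
    (le_inf le_rfl h0).trans (hf.le_pstab le_top)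
  have h2 := hf.left.cen_le_pstab (L := ⊤) le_rfl
  have h3 : ℭ[zpowers (j : G)] ≤ pstab ⊤ (zpowers (j : G)) (sb 2 P e j) :=
    fun x hx => h2 ⟨trivial, hx⟩
  have h4 : IsDef 2 (pstab ⊤ (zpowers (j : G)) (sb 2 P e j)) (sb 2 P e j)
      (P ⊓ pstab ⊤ (zpowers (j : G)) (sb 2 P e j)) := by
    rw [inf_eq_left.2 h1]
    exact h.max.isDef_of_le (NIn.refl ⊤) h.hB.isPrim_ZA_top hf h2 le_rfl h1
  have h5 : ∀ R ≤ P ⊓ pstab ⊤ (zpowers (j : G)) (sb 2 P e j),
      ∀ x ∈ pstab ⊤ (zpowers (j : G)) (sb 2 P e j), x ∈ normalizer (R : Set G) →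
        ¬ 2 ∣ orderOf x → x ∈ ℭ[R] := fun R hR x hx hn ho =>
    hnil R (hR.trans inf_le_left) x (commute_of_odd hf.left.pgroup (pstab_le_normalizer hx) ho)
      hn ho
  have h6 : ∀ v : P, j ∈ zpowers v → ℭ[zpowers (v : G)] ≤ pstab ⊤ (zpowers (j : G)) (sb 2 P e j) :=
    fun v hv => le_trans (centralizer_le (zpowers_le_of_mem (coe_mem_zpowers.2 hv))) h3
  constructor
  · obtain ⟨A, hA, κ, hκ⟩ := exists_char_of h.hM hf (hf.left.le_pstab le_top) h3 le_rfl h4 h5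
    exact ⟨A, fun χ => (hA χ).comp ((MonoidHom.id P).codRestrict _ fun x => h1 x.2),
      fun v hv => (hκ v (h6 v hv)).2⟩
  · rintro v w hv hw ⟨x, hx, h7⟩
    have h8 : x * j * x⁻¹ ∈ zpowers (j : G) := by
      refine FG.H93.mem_zpowers_of_orderOf_dvd_of_mem ?_ (coe_mem_zpowers.2 hw)
        (Om.orderOf_conj_eq _ _).dvd
      obtain ⟨i, rfl⟩ := hv
      exact ⟨i, by simp only [h7, conj_zpow, coe_zpow]⟩
    obtain ⟨u, hu, h9⟩ := exists_mem_of_loc h.hM hf (hf.left.le_pstab le_top) h3 le_rfl h4 h5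
      ((zpowers_le.2 v.2).trans h1) (h6 v hv) ((hx.mono (NIn.refl ⊤)
        (zpowers_le_of_mem (coe_mem_zpowers.2 hv))).mem_pstab hf (Tm.mem_normalizer_zpowers h8)) hx
    refine isConj_iff.2 ⟨⟨u, hu⟩, Subtype.ext ?_⟩
    have h10 := (mem_cen_zpowers _ _).1 h9
    rw [h7]
    calc u * v * u⁻¹ = u * (v * (u⁻¹ * x)) * x⁻¹ := by group
      _ = x * v * x⁻¹ := by rw [← h10]; group

theorem odd_of_height_zero (hfc : ∀ w, FConj 2 e v w →
      Nat.card (centralizer ({w} : Set P)) ≤ Nat.card (centralizer ({v} : Set P)))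
    {θ : P → ℂ} (hθ : IsGeneralizedCharacter P θ) {χ : IrrCharacter G} (hχ : χ ∈ EE B)
    (h1 : Nat.card (centralizer ({v} : Set P)) * mm 2 e χ χ v = θ v * conj (θ v)) {t : ℤ}
    (ht : θ 1 = t) : Odd t := by
  haveI := Fintype.ofFinite P
  have h0 := (card_mul_mm_unit h.hM h.hB h.max hfc χ χ).2 ⟨mem_EE.1 hχ, mem_EE.1 hχ⟩
  have h2 := genChar_sub_mem h.hM hθ (h.pgroup.exists_orderOf_eq_pow v)
  rw [ht] at h2
  refine Int.not_even_iff_odd.1 fun h3 => h0 ?_
  rw [h1, ← hθ.apply_inv]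
  refine MemLocalIdeal.mul_right ?_ (MemLocalRing.of_isIntegral (hθ.isIntegral _))
  simpa using h2.add ((h.hM.intCast_mem_iff t).2 (even_iff_two_dvd.1 h3))

/-- Olsson's bound, if a coset of the commutator subgroup is controlled by a nilpotent local
block. -/
theorem kz_le_of_glue {j a : P} (hn : (zpowers j).Normal)
    (hnil : ∀ R ≤ P, ∀ x ∈ ℭ[zpowers (j : G)], x ∈ normalizer (R : Set G) → ¬ 2 ∣ orderOf x →
      x ∈ ℭ[R]) (h4 : a ^ 4 ∈ commutator P) (hj : ∀ d ∈ commutator P, j ∈ zpowers (d * a))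
    (hfc : ∀ w, FConj 2 e a w →
      Nat.card (centralizer ({w} : Set P)) ≤ Nat.card (centralizer ({a} : Set P))) :
    kz 2 B ≤ (commutator P).index := by
  classical
  haveI := Fintype.ofFinite P
  obtain ⟨⟨A, hA, hm⟩, hc⟩ := h.exists_theta hn hnil
  choose x y t ht h2 hs using fun χ => exists_avg h.pgroup (hA χ) h4
  have hcol : ∀ d : commutator P, ∑ d' : commutator P, ∑ χ with χ ∈ B,
      A χ (d' * a) * conj (A χ (d * a)) = Nat.card P := fun d => by
    have h0 : ∀ u : P, (Nat.card (centralizer ({u} : Set P)) : ℂ) ≠ 0 := fun u =>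
      Nat.cast_ne_zero.2 Nat.card_pos.ne'
    rw [Finset.sum_congr rfl (g := fun d' : commutator P => if IsConj (d * a : P) (d' * a) then
      (Nat.card (centralizer ({d * a} : Set P)) : ℂ) else 0), ← Finset.sum_filter,
      Finset.sum_const, nsmul_eq_mul, ← card_isConj_mul_card_centralizer (d * a : P),
      Nat.cast_mul, ← Fintype.card_subtype, ← Nat.card_eq_fintype_card]
    · congr 2
      refine Nat.card_congr ⟨fun d' => ⟨d'.1 * a, d'.2⟩, fun u => ⟨⟨u * a⁻¹, ?_⟩, by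
        simpa using u.2⟩, fun _ => by simp, fun _ => by simp⟩
      obtain ⟨g, hg⟩ := isConj_iff.1 u.2
      rw [← hg, show g * (d * a) * g⁻¹ * a⁻¹ = g * (d * a) * g⁻¹ * (d * a : P)⁻¹ * d by group]
      exact mul_mem (commutator_mem_commutator (mem_top _) (mem_top _)) d.2
    · intro d' _
      have h1 := sum_mul_conj_eq h.hM h.hB h.max (h0 _) (h0 _) (hm _ (hj d d.2)) (hm _ (hj d' d'.2))
      split_ifs with h3
      · rw [← h1.2]
        obtain ⟨g, hg⟩ := isConj_iff.1 h3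
        exact Finset.sum_congr rfl fun χ _ => by rw [← hg, (hA χ).isClassFunction]
      · exact h1.1 fun h5 => h3 (hc _ _ (hj d d.2) (hj d' d'.2) h5)
  have h3 : ∑ χ with χ ∈ B, (x χ ^ 2 + y χ ^ 2) = (commutator P).index := by
    have e1 := Finset.sum_congr (s₁ := Finset.univ) rfl fun d _ => hcol d
    rw [Finset.sum_const, nsmul_eq_mul, Finset.card_univ, ← Nat.card_eq_fintype_card,
      Finset.sum_congr rfl fun d _ => Finset.sum_comm, Finset.sum_comm] at e1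
    simp only [← Finset.sum_mul, ← Finset.mul_sum, ← map_sum, hs] at e1
    rw [← (commutator P).card_mul_index] at e1
    have e2 : (Nat.card (commutator P) : ℂ) ≠ 0 := Nat.cast_ne_zero.2 Nat.card_pos.ne'
    refine Int.cast_injective (α := ℂ) (mul_left_cancel₀ (mul_ne_zero e2 e2) ?_)
    push_cast at e1 ⊢
    rw [mul_assoc _ _ ((commutator P).index : ℂ), ← e1, Finset.mul_sum]
    refine Finset.sum_congr rfl fun χ _ => ?_
    simp only [map_mul, map_add, map_natCast, map_intCast, Complex.conj_I]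
    linear_combination (Nat.card (commutator P) : ℂ) ^ 2 * (y χ : ℂ) ^ 2 * Complex.I_sq
  have h5 : EE B ⊆ Finset.univ.filter (· ∈ B) := fun χ hχ => by simpa using (mem_EE.1 hχ).1
  have h6 : ∑ χ ∈ EE B, (1 : ℤ) ≤ ∑ χ ∈ EE B, (x χ ^ 2 + y χ ^ 2) :=
    Finset.sum_le_sum fun χ hχ => by
      obtain ⟨k, hk⟩ := h.odd_of_height_zero hfc (hA χ) hχ
        (hm a (by simpa using hj 1 (one_mem _)) χ χ) (ht χ)
      have e1 := h2 χ
      by_contra e2
      have e3 : x χ = 0 := by nlinarith [sq_nonneg (x χ), sq_nonneg (y χ)]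
      have e4 : y χ = 0 := by nlinarith [sq_nonneg (x χ), sq_nonneg (y χ)]
      omega
  have h7 := h6.trans ((Finset.sum_le_sum_of_subset_of_nonneg h5 fun χ _ _ =>
    add_nonneg (sq_nonneg (x χ)) (sq_nonneg (y χ))).trans h3.le)
  rw [Finset.sum_const, nsmul_eq_mul, mul_one] at h7
  rw [kz, natCard_eq_card_filter]
  exact_mod_cast h7

end MP

end Cfsg.Agent.KB
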