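import Mathlib
import Cfsg.Agent.KB.FusA
import Cfsg.Agent.KB.Glue

/-!
# Blocks with a defect group in the family `FamA`: the trace relation
-/

set_option autoImplicit false
set_option linter.unusedSectionVars false
set_option linter.style.haveILetI false

namespace Cfsg.Agent.KB

open MonoidAlgebra Cfsg.Agent.Blk Cfsg.Agent.Blk.Mod Cfsg.Agent.Blk.PD Cfsg.Agent.Ch Cfsg.Agent.GT
  Cfsg.Agent.Blk.Tm Cfsg.Agent.Blk.Ab Cfsg.Agent.GT.CopAct Cfsg.Agent.GT.PG Subgroup

universe u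

variable {G : Type u} [Group G] [Fintype G] {p : ℕ} [hp : Fact p.Prime] {M : Ideal AlgInt}
  [M.IsMaximal] {B : Set (IrrCharacter G)} {P : Subgroup G} {e : (Res M)[G]} {v w : P}
  {F : FusionSystem P}

theorem mem_map_cent {y : G} :
    y ∈ (centralizer {v}).map P.subtype ↔ y ∈ P ∧ y ∈ ℭ[zpowers (v : G)] :=
  ⟨fun ⟨x, hx, e⟩ => e ▸ ⟨x.2, (mem_cen_zpowers _ _).2
    (congrArg Subtype.val (mem_centralizer_singleton_iff.1 hx))⟩, fun h => ⟨⟨y, h.1⟩,
      mem_centralizer_singleton_iff.2 (Subtype.ext ((mem_cen_zpowers _ _).1 h.2)), rfl⟩⟩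

/-- A subsection with abelian defect group and trivial inertial quotient has rank one. -/
theorem MP.lv_eq_one (h : MP p M B P e) (hF : IsFus p ⊤ ⊤ P e F) (hfc : ∀ w, FConj p e v w →
      Nat.card (centralizer ({w} : Set P)) ≤ Nat.card (centralizer ({v} : Set P)))
    (hab : ∀ x y : P, x * v = v * x → y * v = v * y → x * y = y * x)
    (hcen : ∀ f, F.Iso ((centralizer {v}).map P.subtype) ((centralizer {v}).map P.subtype) f →
      ∃ s ∈ P, ∀ y ∈ (centralizer {v}).map P.subtype, f y = s * y * s⁻¹) : lv p B e v = 1 := by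
  haveI := h.hM.charP
  obtain ⟨b, K, _, _, φ, Q, g, hq⟩ := exists_qd_of_fc h.hM h.hB h.max hfc
  have h1 : ∀ x : Q, ∃ y : ℭ[zpowers (v : G)], (y : G) ∈ P ∧ φ y = x := fun x => by
    obtain ⟨y, h1, h2⟩ := hq.eq.le x.2
    exact ⟨y, h1, h2⟩
  have hab' : ∀ x y : G, x ∈ P → y ∈ P → x ∈ ℭ[zpowers (v : G)] → y ∈ ℭ[zpowers (v : G)] →
      x * y = y * x := fun x y hx hy hx' hy' => congrArg Subtype.val (hab ⟨x, hx⟩ ⟨y, hy⟩
        (Subtype.ext ((mem_cen_zpowers _ _).1 hx')) (Subtype.ext ((mem_cen_zpowers _ _).1 hy')))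
  have h2 : iq Q g = ⊥ := eq_bot_iff.2 fun τ hτ => MulEquiv.ext fun x => by
    obtain ⟨y, hy, h2⟩ := mem_iq.1 hτ
    have hv : (v : G) ∈ (centralizer {v}).map P.subtype :=
      mem_map_cent.2 ⟨v.2, (mem_cen_zpowers _ _).2 rfl⟩
    obtain ⟨t, h3, h4⟩ := hq.exists_fz ((centralizer {v}).map P.subtype) y (zpowers_le.2 hv)
      (fun _ hx => (mem_map_cent.1 hx).2) (map_subtype_le _) (hq.max.pair.fz_of_mem_pstab
        (NIn.refl ⊤) (hq.eq ▸ map_mono fun _ hx => (mem_map_cent.1 hx).1) hy) |>.imp fun t h => h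
    haveI : Finite ((centralizer {v}).map P.subtype) := inferInstance
    obtain ⟨s, hs, h5⟩ := hcen _ ((hF.mor h3).iso_self fun x hx => mem_map_cent.2
      ⟨(hF.mor h3).mem hx, mul_mem (mul_mem t.2 (mem_map_cent.1 hx).2) (inv_mem t.2)⟩)
    have h6 : s ∈ ℭ[zpowers (v : G)] := (mem_cen_zpowers _ _).2 (mul_inv_eq_iff_eq_mul.1
      ((h5 v hv).symm.trans (mul_inv_eq_iff_eq_mul.2 ((mem_cen_zpowers _ _).1 t.2))))
    obtain ⟨q, hq1, hq2⟩ := h1 x
    have h7 : t * q * t⁻¹ = q := Subtype.ext ((h5 q (mem_map_cent.2 ⟨hq1, q.2⟩)).trans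
      (mul_inv_eq_iff_eq_mul.2 (hab' s q hs hq1 h6 q.2)))
    refine Subtype.ext ((h2 x).trans ?_)
    rw [← hq2, ← h4 q (mem_map_cent.2 ⟨hq1, q.2⟩), h7]
    exact hq2
  rw [hq.lv_eq h, rank_eq_card_iq (hq.abS fun x y => ?_) (by simp [h2]), h2, card_bot]
  obtain ⟨x', hx, e1⟩ := h1 x
  obtain ⟨y', hy, e2⟩ := h1 y
  refine Subtype.ext ?_
  rw [coe_mul, coe_mul, ← e1, ← e2, ← map_mul, ← map_mul]
  exact congrArg φ (Subtype.ext (hab' _ _ hx hy x'.2 y'.2))

namespace FamA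

variable {m : ℕ} {a c t x : P} (hA : FamA (m + 1) a c t) (h : MP 2 M B P e)
include hA h

theorem isConj_of_fConj (hv : v ∈ fa a c) (hw : w ∈ fa a c) (hc : FConj 2 e v w) : IsConj v w :=
  have ⟨_, hF, hF'⟩ := h.exists_fus
  hA.isConj_of_mem hF' h.pgroup hv hw ((h.isConjElt_iff hF).2 hc)

theorem eq_of_fConj (hv : v ∈ center P) (hw : w ∈ fa a c) (hc : FConj 2 e v w) : w = v := by
  obtain ⟨s, rfl⟩ := isConj_iff.1 (hA.isConj_of_fConj h (hA.center_le hv) hw hc)
  rw [mem_center_iff.1 hv s, mul_inv_cancel_right]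

theorem isConj_of_unfused (hx : ∀ u ∈ fa a c, ¬ FConj 2 e u x) (hc : FConj 2 e x w) :
    IsConj x w := by
  haveI := h.hM.charP
  obtain ⟨F, hF, hF'⟩ := h.exists_fus
  obtain ⟨g, hg, h1⟩ := hc
  obtain ⟨s, hs, h2⟩ := hA.exists_conj_of_unfused hF' h.pgroup
    (fun u hu h2 => hx u hu ((h.isConjElt_iff hF).1 h2)) (hF.mor hg) (mem_zpowers _)
  exact isConj_iff.2 ⟨⟨s, hs⟩, Subtype.ext ((h2 _ (mem_zpowers _)).symm.trans h1.symm)⟩

theorem lv_of_mem (hv : v ∈ fa a c) (h1 : v ∉ center P) : lv 2 B e v = 1 := by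
  obtain ⟨F, hF, hF'⟩ := h.exists_fus
  refine h.lv_eq_one hF (fun w hw => ?_) (fun x y hx hy => ?_) fun f hf => ?_
  · rw [hA.cent_eq hv h1]
    exact hA.card_cent_le fun h2 => h1 (hA.eq_of_fConj h h2 hv (h.equiv.symm hw) ▸ h2)
  · exact hA.mul_comm' ((hA.cent_eq hv h1).le (mem_centralizer_singleton_iff.2 hx))
      ((hA.cent_eq hv h1).le (mem_centralizer_singleton_iff.2 hy))
  · rw [hA.cent_eq hv h1] at hf ⊢
    exact hA.exists_conj_fa hF' h.pgroup hf

theorem lv_of_unfused (hx : ∀ u ∈ fa a c, ¬ FConj 2 e u x) : lv 2 B e x = 1 := by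
  obtain ⟨F, hF, hF'⟩ := h.exists_fus
  refine h.lv_eq_one hF (fun w hw => ?_) (fun _ _ => hA.comm_of_cent fun h1 =>
    hx x h1 (h.equiv.refl x)) fun f hf => hA.exists_conj_of_unfused hF' h.pgroup
      (fun u hu h2 => hx u hu ((h.isConjElt_iff hF).1 h2)) hf.mor
      ⟨x, mem_centralizer_singleton_iff.2 rfl, rfl⟩
  obtain ⟨s, rfl⟩ := isConj_iff.1 (hA.isConj_of_unfused h hx hw)
  exact (card_cent_aut (MulAut.conj s) x).le

/-- The trace of the `*`-construction with a linear character that is nontrivial on `c`. -/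
theorem lv_rel : lv 2 B e (1 : P) + lv 2 B e (a ^ 2 ^ m) =
    lv 2 B e c + lv 2 B e (a ^ 2 ^ m * c) := by
  classical
  obtain ⟨F, hF, hF'⟩ := h.exists_fus
  obtain ⟨l, hl, h1⟩ := h.exists_linear hF (hA.c_notMem_focal hF' h.pgroup)
  have hc : (l c : ℂ) = -1 := congrArg Units.val
    ((units_eq_one_or (by rw [← map_pow, hA.sq, map_one])).resolve_left h1)
  have hz : l (a ^ 2 ^ m) = 1 := Abelianization.commutator_subset_ker l
    (hA.commutator_eq ▸ zpowers_le.2 hA.four_mem hA.z_mem_four)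
  have h2 := h.sum_linear_eq_zero hl hA.cen h1
  have key : ∀ S : Finset P, (∀ v ∈ S, v * c ∈ S) → (∀ v ∈ S, lv 2 B e v = 1) →
      ∑ v ∈ S, (l v : ℂ) * lv 2 B e v / (centralizer {v}).index = 0 := fun S hS hS' => by
    refine Finset.sum_involution (fun v _ => v * c) (fun v hv => ?_) (fun v _ _ e => h1 ?_) hS
      fun v _ => by rw [mul_assoc, ← pow_two, hA.sq, mul_one]
    · rw [hS' v hv, hS' _ (hS v hv), map_mul, Units.val_mul, hc,
        show centralizer {v * c} = centralizer ({v} : Set P) from Subgroup.ext fun y => by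
          rw [mem_centralizer_singleton_iff, mem_centralizer_singleton_iff, mul_assoc,
            ← mem_center_iff.1 hA.cen y, ← mul_assoc, ← mul_assoc, mul_left_inj]]
      ring
    · rw [mul_eq_left.1 e, map_one]
  have h3 : ∑ v with ∃ y ∈ Finset.univ.filter (· ∈ fa a c), FConj 2 e y v,
      (l v : ℂ) * lv 2 B e v / ncl 2 e v =
      ∑ v with v ∈ fa a c, (l v : ℂ) * lv 2 B e v / (centralizer {v}).index := by
    refine Eq.trans (by congr!) ((sum_div_card_eq h.equiv (Finset.univ.filter (· ∈ fa a c))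
      (F := fun v => (l v : ℂ) * lv 2 B e v) fun v w hvw => by
        rw [show (l w : ℂ) = l v from IsStab.eq hl hvw, h.lv_fConj hvw]).trans
          (Finset.sum_congr rfl fun v hv => ?_))
    rw [← card_isConj_eq_index, Nat.card_eq_fintype_card, Fintype.card_subtype]
    congr 3
    ext w
    have hv' := (Finset.mem_filter.1 hv).2
    simp only [Finset.mem_filter, Finset.mem_univ, true_and]
    refine ⟨fun h4 => hA.isConj_of_fConj h hv' h4.1 h4.2, fun h4 => ?_⟩
    obtain ⟨s, rfl⟩ := isConj_iff.1 h4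
    exact ⟨hA.normal.conj_mem v hv' s, fConj_conj h.hM h.pair v s⟩
  have h4 : ∑ v with ¬ ∃ y ∈ Finset.univ.filter (· ∈ fa a c), FConj 2 e y v,
      (l v : ℂ) * lv 2 B e v / ncl 2 e v = 0 := by
    simp only [Finset.mem_filter, Finset.mem_univ, true_and, not_exists, not_and]
    rw [← key (Finset.univ.filter fun v => ∀ u ∈ fa a c, ¬ FConj 2 e u v) (fun v hv => ?_)
      fun v hv => hA.lv_of_unfused h (Finset.mem_filter.1 hv).2]
    · refine Finset.sum_congr rfl fun v hv => ?_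
      rw [← card_isConj_eq_index, ncl, Nat.card_congr (Equiv.subtypeEquivRight fun w =>
        ⟨hA.isConj_of_unfused h (Finset.mem_filter.1 hv).2, fun h4 => ?_⟩)]
      obtain ⟨s, rfl⟩ := isConj_iff.1 h4
      exact fConj_conj h.hM h.pair v s
    · exact Finset.mem_filter.2 ⟨Finset.mem_univ _, fun u hu h4 => hA.unfused_mul hF' h.pgroup
        (fun u hu h5 => (Finset.mem_filter.1 hv).2 u hu ((h.isConjElt_iff hF).1 h5)) u hu
        ((h.isConjElt_iff hF).2 h4)⟩
  have h5 : (Finset.univ.filter (· ∈ fa a c)).filter (· ∈ center P) =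
      {1, a ^ 2 ^ m, c, a ^ 2 ^ m * c} := by
    ext v
    simp only [Finset.mem_filter, Finset.mem_univ, true_and, Finset.mem_insert,
      Finset.mem_singleton]
    refine ⟨fun h5 => hA.cases_sq h5.1 (hA.sq_of_center h5.2), fun h5 =>
      (and_iff_right_of_imp fun h6 => hA.center_le h6).2 ?_⟩
    rcases h5 with rfl | rfl | rfl | rfl
    exacts [one_mem _, hA.z_mem_center, hA.cen, mul_mem hA.z_mem_center hA.cen]
  have h6 : ∀ u ∈ zpowers a, u ≠ c := fun u hu e => hA.notMem (e ▸ hu)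
  have h7 : ∀ u ∈ zpowers a, u ≠ a ^ 2 ^ m * c := fun u hu e =>
    hA.notMem ((mul_mem_cancel_left (pow_mem (mem_zpowers a) _)).1 (e ▸ hu))
  rw [← Finset.sum_filter_add_sum_filter_not _
    fun v => ∃ y ∈ Finset.univ.filter (· ∈ fa a c), FConj 2 e y v, h3, h4, add_zero,
    ← Finset.sum_filter_add_sum_filter_not _ (· ∈ center P), key (Finset.filter (¬ · ∈ center P) _)
      (fun v hv => by
        simp only [Finset.mem_filter, Finset.mem_univ, true_and] at hv ⊢
        exact ⟨mul_mem hv.1 c_mem_fa, fun h8 => hv.2 ((mul_mem_cancel_right hA.cen).1 h8)⟩)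
      (fun v hv => hA.lv_of_mem h (Finset.mem_filter.1 (Finset.mem_filter.1 hv).1).2
        (Finset.mem_filter.1 hv).2), add_zero,
    Finset.sum_congr rfl (g := fun v => (l v : ℂ) * lv 2 B e v) fun v hv => by
      rw [centralizer_eq_top_iff_subset.2 (Set.singleton_subset_iff.2 (Finset.mem_filter.1 hv).2),
        index_top, Nat.cast_one, div_one], h5,
    Finset.sum_insert (by simp [hA.z_ne_one.symm, h6 1 (one_mem _), h7 1 (one_mem _)]),
    Finset.sum_insert (by simp [h6 _ (pow_mem (mem_zpowers a) _), (h6 1 (one_mem _)).symm]),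
    Finset.sum_pair (by simp [hA.z_ne_one]), map_mul, hz, one_mul, map_one, hc] at h2
  exact_mod_cast (by push_cast at h2 ⊢; linear_combination h2 : ((lv 2 B e (1 : P) +
    lv 2 B e (a ^ 2 ^ m) : ℕ) : ℂ) = (lv 2 B e c + lv 2 B e (a ^ 2 ^ m * c) : ℕ))

end FamA

end Cfsg.Agent.KB
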