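import Mathlib
import Cfsg.Agent.KB.LA1
import Cfsg.Agent.KB.Central

/-!
# `l(B) ≤ 3` for defect groups in the family `FamA`
-/

set_option autoImplicit false
set_option linter.unusedSectionVars false
set_option linter.style.haveILetI false

namespace Cfsg.Agent.KB

open MonoidAlgebra Cfsg.Agent.Blk Cfsg.Agent.Blk.Mod Cfsg.Agent.Blk.PD Cfsg.Agent.Ch Cfsg.Agent.GT
  Cfsg.Agent.Blk.Tm Cfsg.Agent.Blk.Ab Cfsg.Agent.GT.CopAct Cfsg.Agent.GT.PG Subgroup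

universe u

variable {G : Type u} [Group G] [Fintype G] {p : ℕ} [hp : Fact p.Prime] {M : Ideal AlgInt}
  [M.IsMaximal] {B : Set (IrrCharacter G)} {P : Subgroup G} {e : (Res M)[G]} {v w x y : P}

section Tame

variable [Fintype P] {m : ℕ} {a b : P} (h : TS M B e m a b)
include h

theorem rank_add_tau_le (hm : 2 ≤ m) : (blockRank 2 B : ℝ) + tau e (Un e a) ≤ 3 := by
  have key : QS m a → OneInv a → (blockRank 2 B : ℝ) + tau e (Un e a) ≤ 3 := fun h1 h2 => by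
    obtain ⟨l, r, e1, -, -, -, e2⟩ := h.qs h1 h2
    obtain ⟨e2, e3, -⟩ := e2 hm
    have e4 : (r : ℝ) + 1 ≤ l := by exact_mod_cast e3
    rw [e2] at e1
    push_cast at e1
    linarith
  rcases h.mt.rel with ⟨h1, h2⟩ | ⟨h1, h2⟩ | ⟨h0, h1, h2⟩
  · exact (h.dih fun g hg => (sq_eq_of_rel h.mt h2 hg).trans h1).2.2.le
  · exact key (qs_of_q h.mt h1 h2) fun t ht _ _ h3 =>
      (h.mt.z_ne_one (h1.symm.trans ((sq_eq_of_rel h.mt h2 ht).symm.trans h3))).elim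
  · exact key (qs_of_sd h.mt hm h1 h2) (oneInv_of_sd h.mt h1 h2)

open Classical in
theorem tau_eq (hx : x ∉ zpowers a) :
    tau e (Un e a) = (if x ∈ Un e a then 1 else 0) + if x * a ∈ Un e a then 1 else 0 := by
  have hxa : x * a ∉ zpowers a := fun h1 => hx ((mul_mem_cancel_right (mem_zpowers a)).1 h1)
  have hc : ∀ v ∉ zpowers a, FConj 2 e x v ∨ FConj 2 e (x * a) v := fun v hv => by
    have h1 : ∀ y ∉ zpowers a, v * y⁻¹ ∈ zpowers a := fun y hy =>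
      (mul_mem_iff_of_index_two h.mt.index_eq).2 (iff_of_false hv fun h1 => hy (inv_mem_iff.1 h1))
    have h2 : ∀ y ∉ zpowers a, v * y⁻¹ ∈ zpowers (a ^ 2) → FConj 2 e y v := fun y hy h2 => by
      simpa using h.fConj_of_isConj (isConj_mul_of_mem_sq h.mt hy h2)
    by_contra! h3
    obtain ⟨f, hf⟩ := exists_hom_a h.mt
    have h4 := hom_apply_of_notMem_sq h.mt hf (h1 x hx) fun h4 => h3.1 (h2 x hx h4)
    have h5 := hom_apply_of_notMem_sq h.mt hf (h1 _ hxa) fun h4 => h3.2 (h2 _ hxa h4)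
    rw [map_mul, map_inv, map_mul, hf, mul_inv_rev, mul_left_comm, ← map_inv f x, ← map_mul,
      h4, inv_mul_cancel] at h5
    exact absurd (congrArg Units.val h5) (by norm_num)
  have key : ∀ (y : P) (S : Finset P), (∀ v ∈ S, v ∈ Un e a ∧ FConj 2 e y v) →
      (y ∈ Un e a → ∀ v, FConj 2 e y v → v ∈ S) → tau e S = if y ∈ Un e a then 1 else 0 := by
    intro y S h1 h2
    split_ifs with h3
    · rw [← h.tau_class y]
      congr 1
      ext v
      simpa using ⟨fun h4 => (h1 v h4).2, h2 h3 v⟩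
    · rw [Finset.eq_empty_of_forall_notMem fun v hv =>
        h3 (h.mem_Un_of (h1 v hv).1 (h.eqv.symm (h1 v hv).2)), tau, Finset.sum_empty]
  rw [← key x ((Un e a).filter (FConj 2 e x)) (fun v hv => Finset.mem_filter.1 hv)
    fun h1 v hv => Finset.mem_filter.2 ⟨h.mem_Un_of h1 hv, hv⟩,
    ← key (x * a) ((Un e a).filter (¬ FConj 2 e x ·)) (fun v hv => ?_)
      fun h1 v hv => Finset.mem_filter.2 ⟨h.mem_Un_of h1 hv, fun h2 => ?_⟩]
  · exact (Finset.sum_filter_add_sum_filter_not _ _ _).symm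
  · obtain ⟨h1, h2⟩ := Finset.mem_filter.1 hv
    exact ⟨h1, (hc v (h.notMem_of_Un h1)).resolve_left h2⟩
  · have h0 : MP 2 M B P e := ⟨h.hM, h.hB, h.max⟩
    obtain ⟨F, hF, hF'⟩ := h0.exists_fus
    have h3 := h.eqv.trans h2 (h.eqv.symm hv)
    refine not_fused_mul hF' h.mt (fun u hu y hy => by_contra fun h4 => ?_) x
      ((h0.isConjElt_iff hF).2 h3)
    exact mem_Un.1 (h.mem_Un_of h1 ((hc y h4).elim (h.eqv.trans (h.eqv.symm h3)) id))
      ⟨u, hu, (h0.isConjElt_iff hF).1 hy⟩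

end Tame

variable (p e) in
/-- Fusion of `x` to `y` that fixes `c`. -/
def FusC (c x y : P) : Prop := ∃ g : G, g * c = c * g ∧
  Fz p ⊤ ⊤ P e (zpowers (x : G) ⊔ zpowers (c : G)) g ∧ (y : G) = g * x * g⁻¹

variable (p e) in
open Classical in
/-- Indicator of `x` not being fused into `A` over `c`. -/
noncomputable def nf (A : Subgroup P) (c x : P) : ℝ := if ∃ y ∈ A, FusC p e c x y then 0 else 1

theorem FusC.fConj_mul (hM : IsPModular p M) (h : FusC p e v x y) (i j : ℕ) :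
    FConj p e (x ^ i * v ^ j) (y ^ i * v ^ j) := by
  haveI := hM.charP
  obtain ⟨g, h1, h2, h3⟩ := h
  refine ⟨g, h2.mono (NIn.refl ⊤) (zpowers_le.2 (mul_mem_sup (pow_mem (mem_zpowers _) i)
    (pow_mem (mem_zpowers _) j))), ?_⟩
  rw [coe_mul, coe_mul, coe_pow, coe_pow, coe_pow, h3, conj_pow, ← conj_mul, ← conj_pow (b := (v : G)),
    h1, mul_inv_cancel_right]

namespace QD

variable {b : Set (IrrCharacter ℭ[zpowers (v : G)])} {K : Type*} [Group K] [Fintype K]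
  {φ : ℭ[zpowers (v : G)] →* K} {Q : Subgroup K} {g : (Res M)[K]}
  (h : QD p B P (zpowers (v : G)) e b φ Q g) (hc : P ≤ ℭ[zpowers (v : G)])

theorem fConj_pi (hx : FusC p e v x y) : FConj p g (h.pi hc x) (h.pi hc y) := by
  haveI := h.hM.charP
  obtain ⟨t, h1, h2, h3⟩ := hx
  refine ⟨φ ⟨t, (mem_cen_zpowers _ _).2 h1⟩, (h.fz_map _ ⟨t, _⟩ le_sup_right (h2.le.trans hc)
    h2).mono (NIn.refl ⊤) (zpowers_le.2 ⟨⟨x, hc x.2⟩, mem_sup_left (mem_zpowers _), rfl⟩), ?_⟩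
  rw [h.coe_pi, h.coe_pi, ← map_inv, ← map_mul, ← map_mul]
  exact congrArg φ (Subtype.ext h3)

theorem exists_fusC {z : Q} (hz : FConj p g (h.pi hc x) z) :
    ∃ y, FusC p e v x y ∧ h.pi hc y = z := by
  haveI := h.hM.charP
  obtain ⟨k, h1, h2⟩ := hz
  have h3 : zpowers (x : G) ⊔ zpowers (v : G) ≤ P := sup_le (zpowers_le.2 x.2) (zpowers_le.2 v.2)
  have h4 : zpowers (x : G) ⊔ zpowers (v : G) ≤
      ((zpowers (h.pi hc x : K)).comap φ).map ℭ[zpowers (v : G)].subtype :=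
    sup_le (zpowers_le.2 ⟨⟨x, hc x.2⟩, mem_zpowers _, rfl⟩) (zpowers_le.2 ⟨⟨v, hc v.2⟩,
      ker_le_comap φ _ (h.ker.ge (mem_zpowers _)), rfl⟩)
  obtain ⟨t, h5, h6⟩ := h.exists_fz _ k le_sup_right (h3.trans hc) h3 (h1.mono (NIn.refl ⊤)
    (map_le_iff_le_comap.2 fun q hq => by
      obtain ⟨q', h5, h6⟩ := h4 hq
      exact Subtype.ext h6 ▸ h5))
  refine ⟨⟨t * x * t⁻¹, h5.conj_le (mem_map_of_mem _ (mem_sup_left (mem_zpowers _)))⟩,
    ⟨t, (mem_cen_zpowers _ _).1 t.2, h5, rfl⟩, Subtype.ext ?_⟩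
  rw [h2, h.coe_pi, h.coe_pi, ← h6 _ (mem_sup_left (mem_zpowers _))]
  rfl

end QD

namespace FamA

variable {m : ℕ} {a c t : P} (hA : FamA (m + 1) a c t) (h : MP 2 M B P e)
include hA h

open Classical in
theorem lv_c : ∃ τ : ℝ, τ = nf 2 e (fa a c) c t + nf 2 e (fa a c) c (t * a) ∧ lv 2 B e c + τ ≤ 3 ∧
    (((a ^ 2 ^ m : P) : G) ∈ center G → lv 2 B e c + τ = 3) := by
  obtain ⟨b, K, _, _, φ, Q, g, hq, -⟩ := h.exists_qd hA.cen
  have hc := le_cen_of_mem_center hA.cen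
  have hk := hq.ker_pi' hc
  obtain ⟨b', hm⟩ := hA.maxTwo hk hq.mp.pgroup (hq.pi_surj hc)
  have hT : TS M hq.qb g m (hq.pi hc a) b' := ⟨h.hM, hq.qblk, hq.max, hm⟩
  have h1 : ∀ x, hq.pi hc x ∈ Un g (hq.pi hc a) ↔ ¬ ∃ y ∈ fa a c, FusC 2 e c x y := fun x => by
    rw [mem_Un, not_iff_not, ← hA.comap_zpowers hk]
    refine ⟨fun ⟨u, hu, h1⟩ => ?_, fun ⟨y, hy, h1⟩ => ⟨_, hy, hT.eqv.symm (hq.fConj_pi hc h1)⟩⟩
    obtain ⟨y, h2, rfl⟩ := hq.exists_fusC hc (hT.eqv.symm h1)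
    exact ⟨y, hu, h2⟩
  refine ⟨tau g (Un g (hq.pi hc a)), ?_, ?_, fun hz => ?_⟩
  · rw [tau_eq hT (x := hq.pi hc t) fun h2 => hA.t_notMem ((hA.comap_zpowers hk).le h2), ← map_mul]
    simp only [h1, ite_not, nf]
  · exact hq.lv_eq h ▸ rank_add_tau_le hT hA.two_le
  · refine hq.lv_eq h ▸ hT.central_rank (mem_center_iff.2 fun k => ?_)
    obtain ⟨k, rfl⟩ := hq.cq.reg.surj k
    rw [← map_pow, hq.coe_pi, ← map_mul, ← map_mul]
    exact congrArg φ (Subtype.ext (mem_center_iff.1 hz k))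

theorem both (hx : x ∉ fa a c) (hy : y ∈ fa a c) (hw : w ∈ fa a c) (h1 : FusC 2 e c x y)
    (h2 : FusC 2 e (a ^ 2 ^ m * c) x w) : x ^ 2 = a ^ 2 ^ m ∧ y ^ 2 = a ^ 2 ^ m := by
  have h3 := h1.fConj_mul h.hM
  have h4 := h2.fConj_mul h.hM
  have hzc := mul_mem hA.z_mem_center hA.cen
  have h5 : y ^ 2 = x ^ 2 := hA.eq_of_fConj h (hA.sq_mem_center hx) (pow_mem hy 2)
    (by simpa using h3 2 0)
  rw [← h5, and_self]
  refine (hA.eq_z (zpowers_sq_le a (hA.sq_mem hy)) (hA.sq_of_center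
    (h5 ▸ hA.sq_mem_center hx))).resolve_left fun h6 => ?_
  have h7 := hA.mem_center_of_sq hy h6
  obtain rfl : w = y := hA.eq_of_fConj h h7 hw
    (h.equiv.trans (h.equiv.symm (by simpa using h3 1 0)) (by simpa using h4 1 0))
  have h8 := hA.eq_of_fConj h (mul_mem h7 hA.cen) (mul_mem hw (hA.center_le hzc))
    (h.equiv.trans (h.equiv.symm (by simpa using h3 1 1))
      (h.equiv.trans ?_ (by simpa using h4 1 1)))
  · exact hA.z_ne_one (by simpa using h8)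
  · obtain ⟨s, hs⟩ := isConj_iff.1 (hA.isConj_z_mul (x := x * c) fun h9 =>
      hx ((mul_mem_cancel_right c_mem_fa).1 h9))
    rw [← mul_assoc, mem_center_iff.1 hA.z_mem_center x, mul_assoc, ← hs]
    exact fConj_conj h.hM h.pair _ s

open Classical in
theorem rank_le : blockRank 2 B ≤ 3 := by
  haveI := h.hM.charP
  have h6 := hA.lv_rel h
  obtain ⟨τ₁, e₁, h8, -⟩ := hA.lv_c h
  obtain ⟨τ₂, e₂, h9, -⟩ := hA.z_mul.lv_c h
  rw [hA.fa_z_mul] at e₂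
  have hb := fun x y w => hA.both h (x := x) (y := y) (w := w)
  have hPC := le_cen_of_mem_center hA.z_mem_center
  generalize hz : a ^ 2 ^ m = z at h6 e₂ h9 hb hPC
  have hf := sub_sb h.hM h.pair z.2
  have h1 : ℭ[zpowers (z : G)] ≤ pstab ⊤ (zpowers (z : G)) (sb 2 P e z) := fun x hx =>
    hf.left.cen_le_pstab le_rfl ⟨trivial, hx⟩
  obtain ⟨b, e₀, hL, h0⟩ := exists_loc h.hM hf (hf.le.trans hPC) le_rfl h1 (by
    rw [inf_eq_left.2 hPC]
    exact h.max.isDef_of_le (NIn.refl ⊤) h.hB.isPrim_ZA_top hf inf_le_right h1 hPC)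
  obtain ⟨b', hb', h2, h3⟩ := exists_isSub h.hM h.hB h.max.toIsPairOf z
  obtain rfl := hb'.eq_of_epsIn_eq hL.blk (h2.trans h0.symm)
  set φ := (subgroupOfEquivOfLe hPC).symm with hφ
  have h' : MP 2 M b' (P.subgroupOf ℭ[zpowers (z : G)]) e₀ := ⟨h.hM, hb', hL.max⟩
  have hA' := hA.map φ
  have hz' : ((φ a ^ 2 ^ m : P.subgroupOf ℭ[zpowers (z : G)]) : ℭ[zpowers (z : G)]) ∈
      center ℭ[zpowers (z : G)] := by
    rw [← map_pow, hz]
    exact mem_center_iff.2 fun x => Subtype.ext ((mem_cen_zpowers _ _).1 x.2)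
  have h4 : ∀ v, lv 2 b' e₀ (φ a ^ 2 ^ m * v) = lv 2 b' e₀ v := fun v => by
    obtain ⟨s, hs, hs'⟩ := exists_sign hz' (congrArg Subtype.val hA'.z_sq)
    simp only [lv]
    congr 2
    refine Finset.sum_congr rfl fun χ _ => ?_
    rw [mm_mul_central h.hM h'.pair hz' (hs' χ) (hs' χ)]
    rcases hs χ with h4 | h4 <;> simp [h4]
  have h5 := hA'.lv_rel h'
  rw [h4, ← mul_one (φ a ^ 2 ^ m), h4, h'.lv_one, ← h.lv_eq h3 h2] at h5
  rw [h.lv_one] at h6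
  obtain ⟨τ₀, e₃, -, h7⟩ := hA'.lv_c h'
  have key : ∀ x ∉ fa a c, nf 2 e₀ (fa (φ a) (φ c)) (φ c) (φ x) ≤
      nf 2 e (fa a c) c x + nf 2 e (fa a c) (z * c) x := fun x hx => by
    simp only [nf]
    split_ifs with h0 h10 h11 h12 h10 h11 <;> try norm_num
    obtain ⟨y, hy, h10⟩ := h10
    obtain ⟨w, hw, h11⟩ := h11
    obtain ⟨h12, h13⟩ := hb x y w hx hy hw h10 h11
    obtain ⟨g, g1, g2, g3⟩ := h10
    have g4 : g ∈ ℭ[zpowers (z : G)] := (mem_cen_zpowers _ _).2 (mul_inv_eq_iff_eq_mul.1 (by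
      rw [← h12, coe_pow, ← conj_pow, ← g3, ← coe_pow, ← coe_pow, h12, h13]))
    refine h0 ⟨φ y, ?_, ⟨g, g4⟩, Subtype.ext g1, ((loc_fz_iff h.hM hL (g2.le.trans hPC)
      (centralizer_le (zpowers_le.2 (mem_sup_left ?_))) ⟨g, g4⟩).2 g2).mono (NIn.refl ⊤)
      (sup_le (zpowers_le.2 (mem_sup_left (mem_zpowers _)))
        (zpowers_le.2 (mem_sup_right (mem_zpowers _)))), Subtype.ext g3⟩
    · have := mem_map_of_mem φ.toMonoidHom hy
      rwa [Subgroup.map_sup, MonoidHom.map_zpowers, MonoidHom.map_zpowers] at this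
    · exact coe_mem_zpowers.2 (h12 ▸ pow_mem (mem_zpowers x) 2)
  have k1 := key t hA.t_notMem
  have k2 := key (t * a) fun h10 => hA.t_notMem ((mul_mem_cancel_right a_mem_fa).1 h10)
  rw [map_mul] at k2
  have h11 := h7 hz'
  have h12 := congrArg (Nat.cast : ℕ → ℝ) h5
  have h13 := congrArg (Nat.cast : ℕ → ℝ) h6
  simp only [Nat.cast_add] at h12 h13
  exact_mod_cast (by linarith : (blockRank 2 B : ℝ) ≤ 3)

end FamA

end Cfsg.Agent.KB
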