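import Mathlib
import Cfsg.Agent.KB.LA
import Cfsg.Agent.KB.GrpCyc
import Cfsg.Agent.KB.GrpGen
import Cfsg.Agent.KB.FusG

/-!
# The bound `k(B) ≤ |D|` for two families of defect groups
-/

set_option autoImplicit false
set_option linter.unusedSectionVars false
set_option linter.style.haveILetI false

namespace Cfsg.Agent.KB.MP

open MonoidAlgebra Cfsg.Agent.Blk Cfsg.Agent.Blk.Mod Cfsg.Agent.Blk.PD Cfsg.Agent.Ch Cfsg.Agent.GT
  Subgroup

universe u

variable {G : Type u} [Group G] [Fintype G] {M : Ideal AlgInt}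
  [M.IsMaximal] {B : Set (IrrCharacter G)} {P : Subgroup G} {e : (Res M)[G]} (h : MP 2 M B P e)
include h

theorem rank_le_of_famA {k : ℕ} {a c t : P} (hA : FamA k a c t) : blockRank 2 B ≤ 3 := by
  obtain ⟨m, rfl⟩ := Nat.exists_eq_succ_of_ne_zero (show k ≠ 0 by have := hA.three_le; omega)
  exact hA.rank_le h

theorem rank_of_famG (hG : FamG P) : blockRank 2 B = 1 := by
  haveI := h.hM.charP
  obtain ⟨F, hF, hF'⟩ := h.exists_fus
  have hnil := (isNilpotentBlock_iff h.hM).2 ⟨h.hB, h.max.isNilp_of_inner (NIn.refl ⊤)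
    h.hB.isPrim_ZA_top (hF.eq_inner_iff.1 (hG.eq_inner hF'))⟩
  obtain ⟨χ, hχ, h0⟩ := Om.exists_height_zero (p := 2) h.hB.nonempty
  exact blockRank_eq_one_of h.hM.prime h.hB.nonempty χ fun ψ hψ =>
    (hnil.exists_nat_mul h.hM hχ h0 hψ).elim fun d hd => ⟨d, hd⟩

theorem card_le_of_quot {u : P} (hu : u ∈ center P) (h1 : ∀ (Q : Type u) [Group Q] (π : P →* Q),
    Function.Surjective π → π.ker = zpowers u → (∃ (k : ℕ) (a c t : Q), FamA k a c t) ∨ FamG Q) :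
    Nat.card B ≤ Nat.card P := by
  obtain ⟨b, K, _, _, φ, Q, g, hq, -⟩ := h.exists_qd hu
  have hc := le_cen_of_mem_center hu
  refine (h.card_le_of_lv_le hu (hq.lv_eq h ▸ ?_)).2
  rcases h1 Q (hq.pi hc) (hq.pi_surj hc) (hq.ker_pi' hc) with ⟨k, a, c, t, h2⟩ | h2
  · exact hq.mp.rank_le_of_famA h2
  · exact (hq.mp.rank_of_famG h2).le.trans (by norm_num)

theorem card_le_of_cyclic {a : P} (h4 : (zpowers a).index ≤ 4) : Nat.card B ≤ Nat.card P := by
  rcases cases_cyclic h.pgroup h4 with ⟨u, hu, h1⟩ | ⟨m, a, b, h1⟩ | ⟨u, hu, h1⟩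
  · exact h.card_le_of_central hu h1
  · exact (h.card_le_of_lv_le (one_mem _) (h.lv_one ▸ h.rank_le_of_maxTwo h1)).2
  · exact h.card_le_of_quot hu fun Q _ π h2 h3 => Or.inl (h1 Q π h2 h3)

theorem card_le_of_sixty_four (h64 : Nat.card P ≤ 64) {x y : P}
    (hgen : zpowers x ⊔ zpowers y = ⊤) : Nat.card B ≤ Nat.card P := by
  rcases cases_two_gen h.pgroup h64 hgen with ⟨a, h1⟩ | ⟨u, hu, h1⟩ | ⟨u, hu, h1⟩
  · exact h.card_le_of_cyclic h1
  · exact h.card_le_of_central hu h1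
  · exact h.card_le_of_quot hu fun Q _ π h2 h3 => (h1 Q π h2 h3).imp_left fun h4 => ⟨3, h4⟩

end Cfsg.Agent.KB.MP
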