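import Mathlib
import Cfsg.Agent.KB.Defs2
import Cfsg.Agent.KB.GrpThree
import Cfsg.Agent.KB.GrpAux
import Cfsg.Agent.S3807

/-!
# Nonabelian `2`-groups of order at most `32`: five cases
-/

set_option autoImplicit false

namespace Cfsg.Agent.KB

open Subgroup Cfsg.Agent.GT.PG AF GX
open scoped commutatorElement

namespace G32

variable {D : Type*} [Group D] [Finite D]

/-- All elements of the order of `x` have small centralisers. -/
def Small (D : Type*) [Group D] : Prop :=
  ∃ x : D, ∀ y : D, orderOf y = orderOf x →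
    Nat.card (centralizer ({y} : Set D)) ≤ 4 * orderOf x ∧
    Nat.card (centralizer ({y} : Set D)) ≤ (commutator D).index

omit [Finite D] in
theorem pow_ne_of_orderOf {x y : D} (h : orderOf y = orderOf x) {n : ℕ} (hx : x ^ n ≠ 1) :
    y ^ n ≠ 1 := by
  rwa [Ne, ← orderOf_dvd_iff_pow_eq_one, h, orderOf_dvd_iff_pow_eq_one]

theorem small_of (h32 : Nat.card D = 32) (hc : Nat.card (commutator D) = 4) {x : D} (hx : x ≠ 1)
    (h : ∀ y : D, orderOf y = orderOf x → Nat.card (centralizer ({y} : Set D)) ≤ 8) :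
    Small D := by
  refine ⟨x, fun y hy => ?_⟩
  have h1 := (commutator D).card_mul_index
  have h2 := h y hy
  have h3 : orderOf x ≠ 1 := by simpa using hx
  have h4 := orderOf_pos x
  rw [hc, h32] at h1
  omega

theorem case_two (hD : IsPGroup 2 D) (hna : ¬ ∀ x y : D, x * y = y * x) (h32 : Nat.card D = 32)
    (hc : Nat.card (commutator D) = 2) : (center D).index = 4 ∨ Small D := by
  have h4 : 2 ^ 2 ∣ (center D).index := sq_dvd_index_center hD fun h => hna h.is_comm.comm
  have h8 := index_center_ne_eight (fun x => hc ▸ index_cent_le x) hna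
  have hnt : Nontrivial D := Finite.one_lt_card_iff_nontrivial.1 (by omega)
  have hZ : 1 < Nat.card (center D) := Finite.one_lt_card_iff_nontrivial.2 hD.center_nontrivial
  have hZi := (center D).card_mul_index
  obtain ⟨k, hk⟩ := G2.card_eq_two_pow hD (center D)
  by_cases hk1 : k = 1
  · right
    obtain ⟨x, hx⟩ : ∃ x : D, x ^ 2 ≠ 1 := by
      by_contra hcon
      push Not at hcon
      have := commutator_le_of_sq_mem (N := (⊥ : Subgroup D)) fun y => by rw [hcon]; exact one_mem _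
      rw [le_bot_iff.1 this, card_bot] at hc
      omega
    have ho : 4 ≤ orderOf x := by
      obtain ⟨n, hn⟩ := IsPGroup.iff_orderOf.1 hD x
      rw [Ne, ← orderOf_dvd_iff_pow_eq_one, hn] at hx
      rw [hn]
      rcases n with _ | _ | n
      · simp at hx
      · simp at hx
      · exact Nat.pow_le_pow_right (by norm_num : 0 < 2) (show 2 ≤ n + 1 + 1 by omega)
    refine ⟨x, fun y hy => ?_⟩
    have hyZ : y ∉ center D := fun h => pow_ne_of_orderOf hy hx (by
      have := pow_card_eq_one' (x := (⟨y, h⟩ : center D))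
      rw [hk, hk1] at this
      exact congrArg Subtype.val this)
    have h1 := two_mul_card_le (cent_lt hyZ)
    have h2 := (commutator D).card_mul_index
    rw [card_top] at h1
    rw [hc] at h2
    omega
  · left
    rw [hk, h32] at hZi
    rw [hk] at hZ
    obtain ⟨c, hc⟩ := h4
    have h2 : 2 ≤ k := by
      rcases k with _ | _ | k
      · simp at hZ
      · simp at hk1
      · omega
    have h3 : 2 ^ 2 ≤ 2 ^ k := Nat.pow_le_pow_right (by norm_num) h2
    rw [hc] at hZi h8 ⊢
    have : c ≤ 2 := by nlinarith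
    interval_cases c <;> omega

theorem case_abelian (hD : IsPGroup 2 D) (hna : ¬ ∀ x y : D, x * y = y * x)
    (h32 : Nat.card D = 32) (hc : Nat.card (commutator D) = 4) {A : Subgroup D}
    (hi : A.index = 2) (hA : ∀ x ∈ A, ∀ y ∈ A, x * y = y * x) :
    Small D ∨ (commutator D = center D ∧ Nat.card (center D) = 4) ∨
      ∃ a c t : D, FamB 3 a c t := by
  have hA' : IsMulCommutative A := isMulCommutative_iff_forall.2 hA
  have hAn : A.Normal := normal_of_index_prime hD hi
  have hA16 : Nat.card A = 16 := by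
    have := A.card_mul_index
    rw [hi, h32] at this
    omega
  have hZ : Nat.card (center D) = 4 := by
    have h1 := (S3807.result 2 hD (fun h => hna h.is_comm.comm) A hA' hi).1
    have h2 := (center D).card_mul_index
    rw [h1, hc, h32] at h2
    omega
  obtain ⟨t, ht⟩ : ∃ t, t ∉ A := (index_eq_two_iff_exists_notMem_and.1 hi).imp fun _ h => h.1
  have hcm : ∀ y, y ∈ commutator D ↔ ∃ x ∈ A, ⁅t, x⁆ = y := fun y =>
    mem_commutator_iff_of_abelian_sup_zpowers hA'
      (sup_zpowers_eq_top_of_index_prime Nat.prime_two hi ht)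
  have hle : commutator D ≤ A := commutator_le_of_index_prime hD hi
  have hc4 : ∀ d ∈ commutator D, d ^ 4 = 1 := fun d hd => by
    have := pow_card_eq_one' (x := (⟨d, hd⟩ : commutator D))
    rw [hc] at this
    exact congrArg Subtype.val this
  have ht2 : t ^ 2 ∈ A := sq_mem_of_index_two hi t
  have hcA : ∀ a, ⁅t, a⁆ ∈ A := fun a => hle (comm_mem t a)
  have hta : ∀ a : D, t * a * t⁻¹ = ⁅t, a⁆ * a := fun a => by
    rw [commutatorElement_def]; group
  have hinv : ∀ d ∈ commutator D, t * d * t⁻¹ = d⁻¹ := fun d hd => by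
    obtain ⟨a, ha, rfl⟩ := (hcm d).1 hd
    have e1 := hA _ ht2 a ha
    calc t * ⁅t, a⁆ * t⁻¹ = (t ^ 2 * a) * (t ^ 2)⁻¹ * (t * a * t⁻¹)⁻¹ := by
          rw [commutatorElement_def, pow_two]; group
      _ = a * (t * a * t⁻¹)⁻¹ := by rw [e1, mul_inv_cancel_right]
      _ = ⁅t, a⁆⁻¹ := by rw [commutatorElement_def]; group
  have hpow : ∀ a ∈ A, ∀ n : ℕ, t * a ^ n * t⁻¹ = ⁅t, a⁆ ^ n * a ^ n := fun a ha n => by
    rw [← conj_pow, hta, Commute.mul_pow (hA _ (hcA a) a ha)]
  by_cases hsq : ∀ d ∈ commutator D, d ^ 2 = 1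
  · refine Or.inr (Or.inl ⟨eq_of_le_of_card_le (fun d hd => ?_) (by omega), hZ⟩)
    refine mem_center_of_index_two hi ht (fun a ha => hA a ha d (hle hd)) ?_
    rw [← mul_inv_eq_iff_eq_mul, hinv d hd, inv_eq_iff_mul_eq_one, ← pow_two, hsq d hd]
  push Not at hsq
  obtain ⟨d, hd, hd2⟩ := hsq
  obtain ⟨a0, ha0, hda⟩ := (hcm d).1 hd
  by_cases h4 : ∀ a ∈ A, a ^ 4 = 1
  · left
    obtain ⟨x, hx⟩ : ∃ x : D, x ^ 4 ≠ 1 := by
      by_contra hcon
      push Not at hcon
      have e1 : (t * a0) ^ 2 = d * (t ^ 2 * a0 ^ 2) := by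
        have := hA a0 ha0 _ ht2
        calc (t * a0) ^ 2 = (t * a0 * t⁻¹) * t ^ 2 * a0 := by rw [pow_two, pow_two]; group
          _ = d * (a0 * t ^ 2) * a0 := by rw [hta, hda]; group
          _ = d * (t ^ 2 * a0 ^ 2) := by rw [this, pow_two a0]; group
      have e2 := hcon (t * a0)
      rw [show 4 = 2 * 2 from rfl, pow_mul, e1,
        Commute.mul_pow (hA d (hle hd) _ (mul_mem ht2 (pow_mem ha0 2))),
        Commute.mul_pow (hA _ ht2 _ (pow_mem ha0 2)), ← pow_mul, ← pow_mul, hcon t, hcon a0] at e2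
      exact hd2 (by simpa using e2)
    refine small_of h32 hc (x := x) (by rintro rfl; simp at hx) fun y hy => ?_
    have hyA : y ∉ A := fun h => pow_ne_of_orderOf hy hx (h4 y h)
    have h1 : A ⊓ centralizer {y} ≤ center D := fun a ha =>
      mem_center_of_index_two hi hyA (fun b hb => hA b hb a ha.1) (mem_cent.1 ha.2).symm
    have h2 := card_le_of_le h1
    have h3 := relIndex_mul_card_inf A (centralizer {y})
    have h5 : A.relIndex (centralizer {y}) ≤ 2 := by
      rw [← hi, ← relIndex_top_right]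
      exact relIndex_le_of_le_right le_top (by rw [relIndex_top_right, hi]; omega)
    nlinarith
  push Not at h4
  obtain ⟨a, ha, ha4⟩ := h4
  have h8 : ∀ g ∈ A, g ^ 8 = 1 := by
    intro g hg
    by_contra hg8
    have hg16 : g ^ 16 = 1 := by
      have := pow_card_eq_one' (x := (⟨g, hg⟩ : A))
      rw [hA16] at this
      exact congrArg Subtype.val this
    have ho : orderOf g = 2 ^ (3 + 1) :=
      orderOf_eq_prime_pow (p := 2) (n := 3) (by simpa using hg8) (by simpa using hg16)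
    have hgA : zpowers g = A :=
      eq_of_le_of_card_le ((zpowers_le).2 hg) (by rw [Nat.card_zpowers, ho, hA16]; norm_num)
    obtain ⟨i, hi'⟩ : d ∈ zpowers g := hgA ▸ hle hd
    simp only at hi'
    have h1 : g ^ (i * 4) = 1 := by
      rw [zpow_mul, hi']; exact_mod_cast hc4 d hd
    obtain ⟨j, hj⟩ : (4 : ℤ) ∣ i := by
      have := (zpow_eq_one_iff_dvd ho).1 h1
      push_cast at this
      omega
    have h2 : t * g ^ 4 * t⁻¹ = g ^ 4 := by rw [hpow g hg, hc4 _ (comm_mem t g), one_mul]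
    have h3 : t * d * t⁻¹ = d := by
      rw [← hi', hj, zpow_mul, ← conj_zpow, show g ^ (4 : ℤ) = g ^ 4 from zpow_natCast g 4, h2]
    rw [hinv d hd, inv_eq_iff_mul_eq_one, ← pow_two] at h3
    exact hd2 h3
  have ho := orderOf_eight (h8 a ha) ha4
  have hza : Nat.card (zpowers a) = 8 := by rw [Nat.card_zpowers, ho]; norm_num
  obtain ⟨c, hcA', hca, hc2⟩ : ∃ c ∈ A, c ∉ zpowers a ∧ c ^ 2 = 1 := by
    obtain ⟨g, hg, hga⟩ : ∃ g ∈ A, g ∉ zpowers a := by
      by_contra hcon
      push Not at hcon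
      have := card_le_of_le (show A ≤ zpowers a from hcon)
      omega
    have hri : (zpowers a).relIndex A = 2 := by
      have := relIndex_mul_card ((zpowers_le).2 ha)
      rw [hza, hA16] at this
      omega
    obtain ⟨i, hi'⟩ := pow_mem_of_relIndex_prime (hD.to_subgroup A) ((zpowers_le).2 ha) hri hg
    simp only at hi'
    have h1 : a ^ (i * 4) = 1 := by
      rw [zpow_mul, hi', show (4 : ℤ) = ((4 : ℕ) : ℤ) from rfl, zpow_natCast, ← pow_mul]
      exact h8 g hg
    obtain ⟨j, hj⟩ : (2 : ℤ) ∣ i := by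
      have := (zpow_eq_one_iff_dvd ho).1 h1
      push_cast at this
      omega
    refine ⟨g * (a ^ j)⁻¹, mul_mem hg (inv_mem (zpow_mem ha j)), fun h => hga ?_, ?_⟩
    · simpa using mul_mem h (zpow_mem (mem_zpowers a) j)
    · rw [Commute.mul_pow (hA g hg _ (inv_mem (zpow_mem ha j))), ← hi', hj, inv_pow,
        ← zpow_natCast, ← zpow_mul, mul_comm j]
      simp
  have hcn : c ∈ normalizer (zpowers a : Set D) := mem_norm_of_comm (comm_zpowers (hA c hcA' a ha))
  have hsup : zpowers a ⊔ zpowers c = A :=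
    eq_of_le_of_card_le (sup_le ((zpowers_le).2 ha) ((zpowers_le).2 hcA')) (by
      rw [card_sup_zpowers Nat.prime_two hcn hca (by rw [hc2]; exact one_mem _), hza, hA16])
  have hsqA : ∀ g ∈ A, ∃ i : ℤ, g ^ 2 = (a ^ 2) ^ i := fun g hg => by
    rw [← hsup] at hg
    obtain ⟨_, ⟨i, rfl⟩, j, rfl⟩ := (mem_sup_zpowers_of_mem_normalizer hcn).1 hg
    refine ⟨i, ?_⟩
    simp only
    rw [Commute.mul_pow (hA _ (zpow_mem ha i) _ (zpow_mem hcA' j)), ← zpow_natCast (c ^ j),
      ← zpow_mul, mul_comm j, zpow_mul, zpow_natCast, hc2, one_zpow, mul_one, ← zpow_natCast,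
      ← zpow_natCast, ← zpow_mul, ← zpow_mul, mul_comm]
  have hne : ⁅t, a⁆ ^ 2 ≠ 1 := by
    intro h
    have h1 : t * a ^ 2 * t⁻¹ = a ^ 2 := by rw [hpow a ha, h, one_mul]
    obtain ⟨i, hi'⟩ := hsqA a0 ha0
    have h2 := hpow a0 ha0 2
    rw [hi', ← conj_zpow, h1, hda, eq_comm, mul_eq_right] at h2
    exact hd2 h2
  have hv : ⁅t, a⁆ ^ 2 = a ^ 4 := by
    obtain ⟨i, hi'⟩ := hsqA _ (hcA a)
    refine (eq_of_mem_eight (h8 a ha) ha4 ?_ ?_).resolve_left hne
    · rw [hi']; exact zpow_mem (pow_mem (mem_zpowers a) 2) i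
    · rw [← pow_mul]; exact hc4 _ (comm_mem t a)
  refine Or.inr (Or.inr ⟨a, c, t, le_rfl, ho, hc2, hca, hA a ha c hcA', hsup ▸ hi, ?_⟩)
  rw [hpow a ha, hv, eq_inv_iff_mul_eq_one, ← pow_add, ← pow_add]
  exact h8 a ha

theorem case_not_abelian (hD : IsPGroup 2 D) (h32 : Nat.card D = 32)
    (hc : Nat.card (commutator D) = 4)
    (hno : ∀ A : Subgroup D, IsMulCommutative A → Nat.card A ≤ 8) : Small D := by
  have hself : ∀ B : Subgroup D, IsMulCommutative B → 8 ≤ Nat.card B →
      ∀ g ∈ centralizer (B : Set D), g ∈ B := by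
    intro B hB h8 g hg
    by_contra hgB
    have h1 := hno _ (isMulCommutative_sup_zpowers hB hg)
    have h2 := two_mul_card_le (show B < B ⊔ zpowers g from lt_of_le_of_ne le_sup_left fun e =>
      hgB (e ▸ mem_sup_right (mem_zpowers g)))
    omega
  have hcz : ∀ {y g : D}, g * y = y * g → g ∈ centralizer (zpowers y : Set D) := fun h =>
    mem_centralizer_iff.2 fun n hn => (comm_zpowers h n hn).symm
  by_cases h4 : ∀ x : D, x ^ 4 = 1
  swap
  · push Not at h4
    obtain ⟨x, hx⟩ := h4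
    refine small_of h32 hc (x := x) (by rintro rfl; simp at hx) fun y hy => ?_
    have hy4 := pow_ne_of_orderOf hy hx
    have ho : 8 ≤ Nat.card (zpowers y) := by
      obtain ⟨n, hn⟩ := IsPGroup.iff_orderOf.1 hD y
      rw [Ne, ← orderOf_dvd_iff_pow_eq_one, hn] at hy4
      rw [Nat.card_zpowers, hn]
      rcases n with _ | _ | _ | n
      · simp at hy4
      · simp at hy4
      · simp at hy4
      · exact Nat.pow_le_pow_right (by norm_num : 0 < 2) (show 3 ≤ n + 1 + 1 + 1 by omega)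
    refine (card_le_of_le (K := zpowers y) fun g hg => ?_).trans (hno _ inferInstance)
    exact hself _ inferInstance ho g (hcz (mem_cent.1 hg))
  have hN : ∀ z ∈ center D, z ^ 2 = 1 → ∃ s : D, s ^ 2 ∉ zpowers z := by
    intro z hz hz2
    by_contra hcon
    push Not at hcon
    have h1 := card_le_of_le (commutator_le_of_sq_mem hcon)
    have h2 := card_zpowers_le two_ne_zero hz2
    omega
  obtain ⟨x, hx⟩ := hN 1 (one_mem _) (one_pow 2)
  have hx2 : x ^ 2 ≠ 1 := fun h => hx (by rw [h]; exact one_mem _)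
  refine small_of h32 hc (x := x) (by rintro rfl; simp at hx2) fun y hy => ?_
  by_contra hbig
  have hy2 := pow_ne_of_orderOf hy hx2
  have hy4 : Nat.card (zpowers y) = 4 := by
    rw [Nat.card_zpowers, orderOf_four (h4 y) hy2]; norm_num
  have hz2 : (y ^ 2) ^ 2 = 1 := by rw [← pow_mul]; exact h4 y
  -- adjoining a commuting element
  have hB : ∀ m, m * y = y * m → m ∉ zpowers y → IsMulCommutative ↥(zpowers y ⊔ zpowers m) ∧
      8 ≤ Nat.card ↥(zpowers y ⊔ zpowers m) := fun m hm hmy => by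
    refine ⟨isMulCommutative_sup_zpowers inferInstance (hcz hm), ?_⟩
    have := two_mul_card_le (show zpowers y < zpowers y ⊔ zpowers m from
      lt_of_le_of_ne le_sup_left fun e => hmy (e ▸ mem_sup_right (mem_zpowers m)))
    omega
  have hcB : ∀ {m g : D}, g * y = y * g → g * m = m * g →
      g ∈ centralizer ((zpowers y ⊔ zpowers m : Subgroup D) : Set D) := fun {m g} h1 h2 => by
    have : zpowers y ⊔ zpowers m ≤ centralizer {g} :=
      sup_le ((zpowers_le).2 (mem_cent.2 h1.symm)) ((zpowers_le).2 (mem_cent.2 h2.symm))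
    exact mem_centralizer_iff.2 fun n hn => mem_cent.1 (this hn)
  have hsq : ∀ g, g * y = y * g → g ^ 2 ∈ zpowers (y ^ 2) := by
    intro g hg
    have hg2 : g ^ 2 * y = y * g ^ 2 := (Commute.pow_left (show Commute g y from hg) 2).eq
    have h1 : g ^ 2 ∈ zpowers y := by
      by_contra hcon
      obtain ⟨b1, b2⟩ := hB _ hg2 hcon
      have h2 := hself _ b1 b2 g (hcB hg (Commute.self_pow g 2).eq)
      obtain ⟨_, ⟨i, rfl⟩, j, hj⟩ := (mem_sup_zpowers_of_mem_normalizer
        (mem_norm_of_comm (comm_zpowers hg2))).1 h2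
      simp only at hj
      apply hcon
      have hcm : Commute (y ^ i) ((g ^ 2) ^ j) := Commute.zpow_zpow hg2.symm i j
      have h3 : ((g ^ 2) ^ j) ^ 2 = 1 := by
        rw [← zpow_natCast, ← zpow_mul, mul_comm, zpow_mul, zpow_natCast, ← pow_mul, h4 g, one_zpow]
      rw [← hj, hcm.mul_pow, h3, mul_one]
      exact pow_mem (zpow_mem (mem_zpowers y) i) 2
    rcases eq_of_mem_four (h4 y) hy2 h1 (by rw [← pow_mul]; exact h4 g) with e | e
    · rw [e]; exact one_mem _
    · rw [e]; exact mem_zpowers _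
  have hyZ : y ∉ center D := fun h => by
    obtain ⟨s, hs⟩ := hN _ (pow_mem h 2) hz2
    exact hs (hsq s (mem_center_iff.1 h s))
  set M := centralizer ({y} : Set D) with hM
  have hM16 : Nat.card M = 16 := by
    have h1 := two_mul_card_le (cent_lt hyZ)
    obtain ⟨k, hk⟩ := G2.card_eq_two_pow hD M
    rw [card_top, h32, ← hM, hk] at h1
    rw [hk] at hbig ⊢
    have h2 : k < 5 := (Nat.pow_lt_pow_iff_right (by norm_num : 1 < 2)).1 (by omega)
    interval_cases k <;> omega
  have hMi : M.index = 2 := by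
    have := M.card_mul_index
    rw [hM16, h32] at this
    omega
  have hMn : M.Normal := normal_of_index_prime hD hMi
  have hyM : y ∈ M := mem_cent.2 rfl
  have hZM : ∀ m ∈ M, (∀ g ∈ M, g * m = m * g) → m ∈ zpowers y := by
    intro m hm hmc
    by_contra hcon
    obtain ⟨b1, b2⟩ := hB m (mem_cent.1 hm) hcon
    have h1 := card_le_of_le (show M ≤ zpowers y ⊔ zpowers m from fun g hg =>
      hself _ b1 b2 g (hcB (mem_cent.1 hg) (hmc g hg)))
    have h2 := hno _ b1
    omega
  have hny : ∀ s : D, s * y * s⁻¹ ∈ zpowers y := fun s =>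
    hZM _ (hMn.conj_mem y hyM s) fun g hg => by
      have := mem_cent.1 (hMn.conj_mem g hg s⁻¹)
      calc g * (s * y * s⁻¹) = s * (s⁻¹ * g * s⁻¹⁻¹ * y) * s⁻¹ := by group
        _ = s * y * s⁻¹ * g := by rw [this]; group
  have hinv := (index_cent_four (h4 y) hy2 hny hyZ).2
  have hzZ : y ^ 2 ∈ center D := mem_center_iff.2 fun g => by
    by_cases hg : g ∈ M
    · exact (Commute.pow_right (show Commute g y from mem_cent.1 hg) 2).eq
    · rw [← mul_inv_eq_iff_eq_mul, ← conj_pow, hinv g hg, inv_pow, inv_eq_iff_mul_eq_one,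
        ← pow_two, hz2]
  obtain ⟨s, hs⟩ := hN _ hzZ hz2
  have hsM : s ∉ M := fun h => hs (hsq s (mem_cent.1 h))
  have hm : s ^ 2 ∈ M := sq_mem_of_index_two hMi s
  have hm2 : (s ^ 2) ^ 2 = 1 := by rw [← pow_mul]; exact h4 s
  have hmy : s ^ 2 ∉ zpowers y := fun h => by
    rcases eq_of_mem_four (h4 y) hy2 h hm2 with e | e
    · exact hs (e ▸ one_mem _)
    · exact hs (e ▸ mem_zpowers _)
  obtain ⟨g, hg, hgm⟩ : ∃ g ∈ M, g * s ^ 2 ≠ s ^ 2 * g := by
    by_contra hcon
    push Not at hcon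
    exact hmy (hZM _ hm hcon)
  obtain ⟨b1, b2⟩ := hB _ (mem_cent.1 hm) hmy
  set B := zpowers y ⊔ zpowers (s ^ 2) with hBd
  have hBM : B ≤ M := sup_le ((zpowers_le).2 hyM) ((zpowers_le).2 hm)
  have hBi : B.relIndex M = 2 := by
    have h1 := relIndex_mul_card hBM
    have h2 := hno _ b1
    rw [hM16, show Nat.card B = 8 by omega] at h1
    omega
  have hBc : ∀ b ∈ B, b * s ^ 2 = s ^ 2 * b := fun b hb =>
    isMulCommutative_iff_forall.1 b1 b hb _ (mem_sup_right (mem_zpowers _))
  have hb : g⁻¹ * (s * g * s⁻¹) ∈ B := by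
    have h1 : (⟨g⁻¹, inv_mem hg⟩ * ⟨_, hMn.conj_mem g hg s⟩ : M) ∈ B.subgroupOf M := by
      refine (mul_mem_iff_of_index_two hBi).2 (iff_of_false (fun h => hgm ?_) fun h => hgm ?_)
      · exact hBc g (by simpa using inv_mem (mem_subgroupOf.1 h))
      · have := hBc _ (mem_subgroupOf.1 h)
        simp only at this
        calc g * s ^ 2 = s⁻¹ * (s * g * s⁻¹ * s ^ 2) * s := by group
          _ = s ^ 2 * g := by rw [this]; group
    exact mem_subgroupOf.1 h1
  obtain ⟨_, ⟨i, rfl⟩, j, hj⟩ := (mem_sup_zpowers_of_mem_normalizer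
    (mem_norm_of_comm (comm_zpowers (mem_cent.1 hm)))).1 hb
  simp only at hj
  have e1 : s * (y ^ i * (s ^ 2) ^ j) * s⁻¹ = (y ^ i * (s ^ 2) ^ j)⁻¹ := by
    have hcm : Commute (y ^ i) ((s ^ 2) ^ j) := Commute.zpow_zpow (mem_cent.1 hm).symm i j
    have h3 : ((s ^ 2) ^ j)⁻¹ = (s ^ 2) ^ j := by
      rw [← inv_zpow, inv_eq_of_mul_eq_one_right (by rw [← pow_two]; exact hm2)]
    calc s * (y ^ i * (s ^ 2) ^ j) * s⁻¹ = (s * y * s⁻¹) ^ i * (s ^ 2) ^ j := by
          rw [conj_zpow]; group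
      _ = (y ^ i * (s ^ 2) ^ j)⁻¹ := by
          rw [hinv s hsM, hcm.eq, mul_inv_rev, h3, inv_zpow]
  apply hgm
  rw [hj] at e1
  calc g * s ^ 2 = s * g * s⁻¹ * (g⁻¹ * (s * g * s⁻¹))⁻¹ * s ^ 2 := by group
    _ = s ^ 2 * g := by rw [← e1, pow_two]; group

end G32

open G32 in
theorem cases_thirtyTwo {D : Type*} [Group D] [Finite D] (hD : IsPGroup 2 D)
    (hna : ¬ ∀ x y : D, x * y = y * x) (h32 : Nat.card D ≤ 32) :
    (∃ (m : ℕ) (a b : D), GT.PG.MaxTwo m a b) ∨ (center D).index = 4 ∨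
    (∃ x : D, ∀ y : D, orderOf y = orderOf x →
      Nat.card (centralizer ({y} : Set D)) ≤ 4 * orderOf x ∧
      Nat.card (centralizer ({y} : Set D)) ≤ (commutator D).index) ∨
    (∃ A : Subgroup D, A.index = 2 ∧ (∀ x ∈ A, ∀ y ∈ A, x * y = y * x) ∧ Nat.card D = 32 ∧
      commutator D = center D ∧ Nat.card (center D) = 4) ∨
    ∃ a c t : D, FamB 3 a c t := by
  by_cases h16 : Nat.card D ≤ 16
  · exact (maxTwo_or_center hD hna h16).imp_right fun h => Or.inl h.2
  have h32' : Nat.card D = 32 := by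
    obtain ⟨k, hk⟩ := hD.exists_card_eq
    rw [hk] at h16 h32 ⊢
    have h2 : k < 6 := (Nat.pow_lt_pow_iff_right (by norm_num : 1 < 2)).1 (by omega)
    interval_cases k <;> omega
  obtain ⟨k, hk⟩ := G2.card_eq_two_pow hD (commutator D)
  have hi := (commutator D).card_mul_index
  obtain ⟨c, hc⟩ := four_dvd_index_commutator hD hna
  rw [hk, h32'] at hi
  have hk4 : k < 4 := by
    refine (Nat.pow_lt_pow_iff_right (by norm_num : 1 < 2)).1 ?_
    rw [hc] at hi
    rcases c with _ | c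
    · omega
    · nlinarith
  interval_cases k
  · exfalso
    apply hna
    intro x y
    have := comm_mem x y
    rwa [card_eq_one.1 hk, mem_bot, commutatorElement_eq_one_iff_mul_comm] at this
  · rcases case_two hD hna h32' hk with h | h
    · exact Or.inr (Or.inl h)
    · exact Or.inr (Or.inr (Or.inl h))
  · by_cases hno : ∀ A : Subgroup D, IsMulCommutative A → Nat.card A ≤ 8
    · exact Or.inr (Or.inr (Or.inl (case_not_abelian hD h32' hk hno)))
    push Not at hno
    obtain ⟨A, hA, hA8⟩ := hno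
    have hAi : A.index = 2 := by
      have h1 := two_mul_card_le (lt_top_iff_ne_top.2 (show A ≠ ⊤ by
        rintro rfl
        exact hna (isMulCommutative_top_iff.1 hA).is_comm.comm))
      obtain ⟨l, hl⟩ := G2.card_eq_two_pow hD A
      have h3 := A.card_mul_index
      rw [card_top, h32', hl] at h1
      rw [hl] at hA8 h3
      have h2 : l < 5 := (Nat.pow_lt_pow_iff_right (by norm_num : 1 < 2)).1 (by omega)
      interval_cases l <;> omega
    have hA' := isMulCommutative_iff_forall.1 hA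
    rcases case_abelian hD hna h32' hk hAi hA' with h | h | h
    · exact Or.inr (Or.inr (Or.inl h))
    · exact Or.inr (Or.inr (Or.inr (Or.inl ⟨A, hAi, hA', h32', h⟩)))
    · exact Or.inr (Or.inr (Or.inr (Or.inr h)))
  · exact Or.inl (exists_maxTwo_of_index_commutator hD (fun h => hna h.is_comm.comm) (by omega))

end Cfsg.Agent.KB
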