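import Mathlib
import Cfsg.Agent.KB.Glue
import Cfsg.Agent.KB.Central
import Cfsg.Agent.KB.FamApi
import Cfsg.Agent.KB.FusCen
import Cfsg.Agent.KB.Grp32

/-!
# Olsson's bound for `2`-blocks of defect at most five
-/

set_option autoImplicit false
set_option linter.unusedSectionVars false
set_option linter.style.haveILetI false

namespace Cfsg.Agent.KB

open MonoidAlgebra Cfsg.Agent.Blk Cfsg.Agent.Blk.Mod Cfsg.Agent.Blk.PD Cfsg.Agent.Ch Cfsg.Agent.GT
  Cfsg.Agent.Blk.Tm Cfsg.Agent.Blk.Ab Cfsg.Agent.GT.CopAct Cfsg.Agent.GT.PG Subgroup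

universe u

variable {G : Type u} [Group G] [Fintype G] {M : Ideal AlgInt} [M.IsMaximal]
  {B : Set (IrrCharacter G)} {P : Subgroup G} {e : (Res M)[G]}

namespace MP

variable (h : MP 2 M B P e)
include h

theorem kz_le_of_famB {m : ℕ} {a c t : P} (hf : FamB (m + 1) a c t) :
    kz 2 B ≤ (commutator P).index := by
  have h4 : ∀ w : P, orderOf w = orderOf a → w ∉ center P := fun w hw h1 => hf.four_ne_one (by
    rw [← orderOf_dvd_iff_pow_eq_one, ← hw, orderOf_dvd_iff_pow_eq_one]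
    exact hf.pow_four_of_center h1)
  refine h.kz_le_of_glue (a := a) hf.normal_sq (fun R hR x hx hn ho => ?_)
    (hf.commutator_eq ▸ hf.four_mem) (fun d hd => hf.sq_mem_zpowers hd) fun w hw => by
      rw [hf.cent_eq a_mem_fa (h4 a rfl)]
      exact hf.card_cent_le (h4 w hw.orderOf_eq)
  have h2 : centralizer {a ^ 2} = fa a c := hf.cent_eq (pow_mem a_mem_fa 2) fun h1 =>
    hf.four_ne_one (by
      have h3 := hf.inv
      rwa [mem_center_iff.1 h1, mul_inv_cancel_right, eq_inv_iff_mul_eq_one, ← pow_add] at h3)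
  refine mem_cent_of_chain (Y := (fa a c).map P.subtype) (h.pgroup.to_le hR) hn ho
    (fun y hy hy' => fix_of_four (ψ := MulAut.conj x) (R := R ⊓ (fa a c).map P.subtype)
      (z := (a ^ 2 ^ m : P)) (c := c)
      (Inv.Fz.odd_orderOf_conj (Nat.odd_iff.2 (by omega))) ((h.pgroup.to_le hR).to_inf_left)
      ?_ ?_ ?_ (congrArg P.subtype hf.z_sq) (congrArg P.subtype (hf.commute.pow_left _).eq) ?_
      ⟨hy, hy'⟩) fun r hr s hs h1 h3 => ?_
  · rintro _ ⟨-, y, hy, rfl⟩ _ ⟨-, y', hy', rfl⟩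
    exact congrArg P.subtype (hf.mul_comm' hy hy')
  · rintro _ ⟨h1, y, hy, rfl⟩
    have h3 := (mem_normalizer_iff.1 hn _).1 h1
    refine ⟨h3, ⟨_, hR h3⟩, ?_, rfl⟩
    rw [← h2] at hy ⊢
    exact mem_centralizer_singleton_iff.2 (Subtype.ext ((mem_cen_zpowers _ _).1
      (mul_mem (mul_mem hx ((mem_cen_zpowers _ _).2 (congrArg P.subtype
        (mem_centralizer_singleton_iff.1 hy)))) (inv_mem hx))))
  · exact mul_inv_eq_iff_eq_mul.2 (hx _ (coe_mem_zpowers.2 hf.z_mem_sq)).symm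
  · rintro _ ⟨-, y, hy, rfl⟩ h1
    rcases hf.cases_sq hy (Subtype.ext h1) with h3 | h3 | h3 | h3 <;> simp [h3]
  · exact ⟨(⟨r, hR hr⟩ : P)⁻¹ * ⟨s, hR hs⟩, hf.inv_mul_mem (fun h5 => h1 ⟨_, h5, rfl⟩)
      fun h5 => h3 ⟨_, h5, rfl⟩, rfl⟩

theorem kz_le_of_class {x : P} {n : ℕ} (H : ∀ y, FConj 2 e x y →
    Nat.card (centralizer ({y} : Set P)) ≤ 4 * orderOf x ∧
      Nat.card (centralizer ({y} : Set P)) ≤ n) : kz 2 B ≤ n := by
  obtain ⟨v, hv, h1⟩ := Set.exists_max_image {y | FConj 2 e x y}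
    (fun y => Nat.card (centralizer ({y} : Set P))) (Set.toFinite _) ⟨x, h.equiv.refl x⟩
  have hfc := fun w (hw : FConj 2 e v w) => h1 w (h.equiv.trans hv hw)
  have h2 := h.lv_of_fc hfc (hv.orderOf_eq ▸ (H v hv).1)
  exact (h.kz_le_of_fc hfc (by omega)).trans (H v hv).2

theorem kz_le_of_center (h32 : Nat.card P ≤ 32) (hZ : (center P).index = 4) :
    kz 2 B ≤ (commutator P).index := by
  obtain ⟨F, hF, hF'⟩ := h.exists_fus
  obtain ⟨x, h1, h2⟩ := exists_not_fused_center hF' h.pgroup hZ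
  obtain ⟨c, -, hc1, hc2, hc3⟩ := foc16_commutator hZ
  have h3 := (commutator P).card_mul_index
  rw [hc3, Nat.card_zpowers, orderOf_eq_prime hc2 hc1, ← hc3] at h3
  have h4 : 4 ≤ orderOf x := by
    obtain ⟨k, hk⟩ := h.pgroup.exists_orderOf_eq_pow x
    rw [hk]
    exact Nat.pow_le_pow_right two_pos (show 2 ≤ k from not_lt.1 fun h5 => h1
      (orderOf_dvd_iff_pow_eq_one.1 (hk ▸ pow_dvd_pow 2 (Nat.le_of_lt_succ h5))))
  refine h.kz_le_of_class (x := x) fun y hy => ?_
  have h5 := AF.two_mul_card_le (lt_top_iff_ne_top.2 fun e : centralizer ({y} : Set P) = ⊤ =>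
    h2 y (mem_center_iff.2 fun g => mem_centralizer_singleton_iff.1 (e.ge (mem_top g)))
      ((h.isConjElt_iff hF).2 hy))
  rw [card_top] at h5
  omega

theorem kz_le_of_abIdx {A : Subgroup P} (hA : A.index = 2) (hab : ∀ x ∈ A, ∀ y ∈ A, x * y = y * x)
    (h32 : Nat.card P = 32) (hc : commutator P = center P) (h4 : Nat.card (center P) = 4) :
    kz 2 B ≤ (commutator P).index := by
  obtain ⟨F, hF, hF'⟩ := h.exists_fus
  obtain ⟨x, hx⟩ : ∃ x, x ∉ A := by
    by_contra! h1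
    rw [show A = ⊤ from eq_top_iff.2 fun x _ => h1 x, index_top] at hA
    omega
  have h1 := (commutator P).card_mul_index
  rw [h32, hc, h4, ← hc] at h1
  have h2 : 1 < orderOf x := Nat.one_lt_iff_ne_zero_and_ne_one.2 ⟨(orderOf_pos x).ne', fun e =>
    hx (orderOf_eq_one_iff.1 e ▸ one_mem _)⟩
  have h3 : Nat.card (centralizer ({x} : Set P)) ≤ 8 := by
    have h5 : centralizer ({x} : Set P) ⊓ A ≤ center P := fun y hy => mem_center_iff.2 fun g => by
      rcases mem_or_mem_of_index_two hA hx g with h6 | h6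
      · exact hab g h6 y hy.2
      · rw [show g = x * (x⁻¹ * g) by group, mul_assoc, hab _ h6 y hy.2, ← mul_assoc,
          ← mem_centralizer_singleton_iff.1 hy.1, mul_assoc]
    have h6 := card_le_of_le h5
    have h7 := AF.card_eq_mul_relIndex A (centralizer ({x} : Set P))
    haveI := normal_of_index_eq_two hA
    have h8 := Nat.le_of_dvd (hA ▸ two_pos) (relIndex_dvd_index_of_normal A
      (centralizer ({x} : Set P)))
    rw [hA] at h8
    nlinarith
  refine h.kz_le_of_class (x := x) fun y hy => ?_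
  have := card_cent_le_of_fused hF' hA hab h32 hc h4 h3 ((h.isConjElt_iff hF).2 hy)
  omega

theorem kz_le (h32 : Nat.card P ≤ 32) : kz 2 B ≤ (commutator P).index := by
  by_cases hab : ∀ x y : P, x * y = y * x
  · refine le_trans (Nat.card_le_card_of_injective (fun χ => (⟨χ.1, χ.2.1⟩ : B))
      fun _ _ e => Subtype.ext (congrArg (Subtype.val : B → _) e)) ?_
    rw [(commutator_eq_bot_iff_center_eq_top P).2 (eq_top_iff.2 fun x _ =>
      mem_center_iff.2 fun y => hab y x), index_bot]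
    obtain ⟨v, hv⟩ : ∃ v : P, (zpowers v).index ≤ 16 := by
      rcases subsingleton_or_nontrivial P with h1 | h1
      · exact ⟨1, (G2.index_le_card _).trans (by rw [Nat.card_of_subsingleton (1 : P)]; omega)⟩
      · obtain ⟨v, hv⟩ := exists_ne (1 : P)
        have h2 := (zpowers v).card_mul_index
        have h3 := (zpowers v).one_lt_card_iff_ne_bot.2 (zpowers_ne_bot.2 hv)
        exact ⟨v, by nlinarith⟩
    exact h.card_le_of_central (mem_center_iff.2 fun y => hab y v) hv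
  rcases cases_thirtyTwo h.pgroup hab h32 with ⟨m, a, b, h1⟩ | h1 | ⟨x, h1⟩ |
    ⟨A, h1, h2, h3, h4, h5⟩ | ⟨a, c, t, h1⟩
  · haveI := Fintype.ofFinite P
    rw [h1.index_commutator]
    exact (TS.natCard_EE ⟨h.hM, h.hB, h.max, h1⟩).le
  · exact h.kz_le_of_center h32 h1
  · exact h.kz_le_of_class fun y hy => h1 y hy.orderOf_eq
  · exact h.kz_le_of_abIdx h1 h2 h3 h4 h5
  · exact h.kz_le_of_famB (m := 2) h1

end MP

end Cfsg.Agent.KB
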